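import Cfsg.Agent.Lib.TwoFusion.M24Type.Shape
import Cfsg.Agent.Lib.Transfer.Fusion
import Cfsg.Agent.Lib.Core.Basic
import Cfsg.Prelude.Def_TwoFusion
import Mathlib.GroupTheory.Subgroup.Centralizer

/-!
Owner: helper23. The strong closure of the abelian subgroup of order 64 (for S3169).

* `Uniq S A`: `A` is the only abelian subgroup of order 64 of `S`.
* `Two S A F u`: `F` is the elementary subgroup of order 32 of an involution `u` outside `A`.
* `Two.fix`: every element normalising `F` normalises `F ⊓ A`.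
* `isStronglyClosed`: `A` is strongly closed in `S`.
-/

set_option autoImplicit false
set_option linter.style.haveILetI false
set_option linter.unusedSectionVars false

namespace CfsgLib.TwoFusion.M24Type

open Subgroup Cfsg
open scoped commutatorElement

variable {G : Type*} [Group G] [Finite G] {S : Sylow 2 G} {A : Subgroup G}

/-- `A` is the only abelian subgroup of order 64 of `S`. -/
def Uniq (S : Sylow 2 G) (A : Subgroup G) : Prop :=
  ∀ B : Subgroup G, B ≤ (S : Subgroup G) → IsMulCommutative ↥B → Nat.card ↥B = 64 → B = A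

theorem Shape.isMulCommutative {T : Subgroup G} (h : Shape T A) : IsMulCommutative ↥A :=
  ⟨⟨fun a b => Subtype.ext (h.comm a a.2 b b.2)⟩⟩

variable (h : Shape (S : Subgroup G) A) (hu : Uniq S A)

include h hu

/-- An element conjugating `A` into a 2-subgroup containing `A` normalises `A`. -/
theorem mem_normalizer_of_conj {U : Subgroup G} (hU : IsPGroup 2 U) (hAU : A ≤ U) {n : G}
    (hn : ∀ a ∈ A, n * a * n⁻¹ ∈ U) : n ∈ normalizer (A : Set G) := by
  haveI := Fact.mk Nat.prime_two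
  obtain ⟨T, hT⟩ := hU.exists_le_sylow
  obtain ⟨g, hg⟩ := MulAction.exists_smul_eq G T S
  have hgT : ∀ x ∈ (T : Subgroup G), g * x * g⁻¹ ∈ (S : Subgroup G) := fun x hx => by
    rw [← hg, Sylow.coe_subgroup_smul]
    exact Subgroup.smul_mem_pointwise_smul x (MulAut.conj g) _ hx
  have key : ∀ e : G, (∀ a ∈ A, e * a * e⁻¹ ∈ U) → g * e ∈ normalizer (A : Set G) := by
    intro e he
    rw [← CfsgLib.Transfer.map_conj_eq_self_iff]
    refine hu _ ?_ ?_ ?_
    · rintro _ ⟨a, ha, rfl⟩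
      simpa [mul_assoc] using hgT _ (hT (he a ha))
    · haveI := h.isMulCommutative
      exact Subgroup.map_isMulCommutative A _
    · rw [← Nat.card_congr (A.equivMapOfInjective _ (MulAut.conj (g * e)).injective).toEquiv, h.cardA]
  have h1 := key 1 fun a ha => by simpa using hAU ha
  simpa using mul_mem (inv_mem h1) (key n hn)

/-- A 2-subgroup containing `A` is carried into `S` by an element normalising `A`. -/
theorem exists_normalizer_sylow {U : Subgroup G} (hU : IsPGroup 2 U) (hAU : A ≤ U) :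
    ∃ k ∈ normalizer (A : Set G), ∀ x ∈ U, k * x * k⁻¹ ∈ (S : Subgroup G) := by
  haveI := Fact.mk Nat.prime_two
  obtain ⟨T, hT⟩ := hU.exists_le_sylow
  obtain ⟨g, hg⟩ := MulAction.exists_smul_eq G T S
  have hgT : ∀ x ∈ (T : Subgroup G), g * x * g⁻¹ ∈ (S : Subgroup G) := fun x hx => by
    rw [← hg, Sylow.coe_subgroup_smul]
    exact Subgroup.smul_mem_pointwise_smul x (MulAut.conj g) _ hx
  exact ⟨g, mem_normalizer_of_conj h hu (S.2) h.le fun a ha => hgT a (hT (hAU ha)), fun x hx => hgT x (hT hx)⟩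

omit hu

/-- An elementary subgroup of order 32 of `S` is normalised by `A`. -/
theorem le_normalizer_of_elem {F : Subgroup G} (hFS : F ≤ (S : Subgroup G))
    (hc : ∀ x ∈ F, ∀ y ∈ F, x * y = y * x) (hs : ∀ x ∈ F, x * x = 1) (h32 : Nat.card ↥F = 32) :
    A ≤ normalizer (F : Set G) := by
  have hFN : F ≤ normalizer (A : Set G) := hFS.trans h.norm
  set C := A ⊓ centralizer (F : Set G) with hC
  have hinfC : A ⊓ F ≤ C := fun x hx => ⟨hx.1, mem_centralizer_iff.2 fun y hy => hc y hy x hx.2⟩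
  -- centralised elements lie in `F`
  have hCF : ∀ w ∈ F, w ∉ A → C ≤ F := by
    intro w hw hwA
    have hsup := CfsgLib.Core.card_sup_mul_card_inf F A hFN
    rw [h.cardA, h32] at hsup
    have hle : Nat.card ↥(F ⊔ A : Subgroup G) ≤ 512 := h.card ▸ card_le_of_le (sup_le hFS h.le)
    have hdvd : Nat.card ↥(F ⊓ A : Subgroup G) ∣ 2 ^ 5 := by
      rw [show (2 : ℕ) ^ 5 = 32 from rfl, ← h32]; exact card_dvd_of_le inf_le_left
    obtain ⟨i, hi, hie⟩ := (Nat.dvd_prime_pow Nat.prime_two).1 hdvd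
    have h4 : 4 ≤ Nat.card ↥(F ⊓ A : Subgroup G) := by nlinarith
    have hw1 : Nat.card ↥C ≤ 16 := (card_le_of_le (le_inf inf_le_left (inf_le_right.trans
      (centralizer_le (Set.singleton_subset_iff.2 hw))))).trans (h.cent_card w (hFS hw) hwA)
    have hfin : Nat.card ↥C ≤ Nat.card ↥(A ⊓ F : Subgroup G) → C ≤ F := fun hle =>
      (eq_of_le_of_card_ge hinfC hle).symm.le.trans inf_le_right
    rw [inf_comm] at hfin
    interval_cases i
    · omega
    · omega
    · -- order 4: the whole quotient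
      exfalso
      have h4' : Nat.card ↥(F ⊔ A : Subgroup G) = 512 := by rw [hie] at hsup; omega
      have hFA : F ⊔ A = (S : Subgroup G) := eq_of_le_of_card_ge (sup_le hFS h.le) (by rw [h.card, h4'])
      obtain ⟨g, hg, g', hg', hne⟩ := h.nonab
      have hdec : ∀ x ∈ (S : Subgroup G), ∃ f ∈ F, ∃ a ∈ A, x = f * a := fun x hx => by
        have hx' : x ∈ ((F ⊔ A : Subgroup G) : Set G) := hFA.symm ▸ hx
        rw [coe_mul_of_left_le_normalizer_right _ _ hFN] at hx'
        obtain ⟨f, hf, a, ha, rfl⟩ := hx'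
        exact ⟨f, hf, a, ha, rfl⟩
      obtain ⟨f, hf, a, ha, rfl⟩ := hdec g hg
      obtain ⟨f', hf', a', ha', rfl⟩ := hdec g' hg'
      refine hne ?_
      have hN : ∀ z ∈ F, ∀ b ∈ A, z * b * z⁻¹ ∈ A := fun z hz b hb => (mem_normalizer_iff.1 (hFN hz) b).1 hb
      have e : ⁅f * a, f' * a'⁆ = (f * a * f⁻¹) * ((f * f') * (a' * a⁻¹) * (f * f')⁻¹) *
          (f * f' * f⁻¹ * a'⁻¹ * f'⁻¹) := by rw [commutatorElement_def]; group
      have e2 : f * f' * f⁻¹ = f' := by rw [hc f hf f' hf', mul_inv_cancel_right]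
      rw [e, e2]
      exact mul_mem (mul_mem (hN f hf a ha) (hN _ (mul_mem hf hf') _ (mul_mem ha' (inv_mem ha))))
        (hN f' hf' _ (inv_mem ha'))
    · -- order 8: two independent involutions outside
      obtain ⟨u, hu, huA, huw⟩ : ∃ u ∈ F, u ∉ A ∧ w⁻¹ * u ∉ A := by
        by_contra hcon
        have hsub : ((F : Set G)) ⊆ ((F ⊓ A : Subgroup G) : Set G) ∪ (fun x => w * x) '' ((F ⊓ A : Subgroup G) : Set G) := by
          intro u hu
          by_cases huA : u ∈ A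
          · exact Or.inl ⟨hu, huA⟩
          · refine Or.inr ⟨w⁻¹ * u, ⟨F.mul_mem (F.inv_mem hw) hu, ?_⟩, mul_inv_cancel_left w u⟩
            by_contra h'
            exact hcon ⟨u, hu, huA, h'⟩
        have hn := (Set.ncard_le_ncard hsub (Set.toFinite _)).trans (Set.ncard_union_le _ _)
        rw [Set.ncard_image_of_injective _ (mul_right_injective w), ← Nat.card_coe_set_eq, ← Nat.card_coe_set_eq] at hn
        change Nat.card ↥F ≤ Nat.card ↥(F ⊓ A : Subgroup G) + Nat.card ↥(F ⊓ A : Subgroup G) at hn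
        omega
      refine hfin (le_trans (card_le_of_le ?_) (le_trans (h.cent_pair w (hFS hw) hwA u (hFS hu) huA huw) (by omega)))
      exact le_inf (le_inf inf_le_left (inf_le_right.trans (centralizer_le (Set.singleton_subset_iff.2 hw))))
        (inf_le_right.trans (centralizer_le (Set.singleton_subset_iff.2 hu)))
    · exact hfin (by omega)
    · exfalso
      refine hwA ((eq_of_le_of_card_ge (inf_le_left : F ⊓ A ≤ F) (by rw [h32, hie]; norm_num)).symm.le hw).2
  have key : ∀ a ∈ A, ∀ w ∈ F, a * w * a⁻¹ ∈ F := by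
    intro a ha w hw
    by_cases hwA : w ∈ A
    · rw [h.comm a ha w hwA, mul_inv_cancel_right]; exact hw
    have hz : ⁅a, w⁆ ∈ A := by
      rw [commutatorElement_def, mul_assoc, mul_assoc, ← mul_assoc w]
      exact mul_mem ha ((mem_normalizer_iff.1 (hFN hw) _).1 (inv_mem ha))
    have hzc : ⁅a, w⁆ ∈ centralizer (F : Set G) := mem_centralizer_iff.2 fun u hu => by
      by_cases huA : u ∈ A
      · exact h.comm u huA _ hz
      · have e1 : ⁅w, u⁆ = 1 := commutatorElement_eq_one_iff_commute.2 (hc w hw u hu)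
        have e2 := h.acts u (hFS hu) huA (hs u hu) w (hFS hw) (e1 ▸ one_mem A) a ha
        rw [← commutatorElement_inv w a]
        exact e2.inv_right.eq
    have := mul_mem (hCF w hw hwA ⟨hz, hzc⟩) hw
    rwa [commutatorElement_def, inv_mul_cancel_right] at this
  intro a ha
  refine mem_normalizer_iff.2 fun w => ⟨key a ha w, fun hw => ?_⟩
  have := key a⁻¹ (inv_mem ha) _ hw
  simpa [mul_assoc] using this

omit h

/-- The elementary subgroup of an involution `u` outside `A`. -/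
structure Two (S : Sylow 2 G) (A F : Subgroup G) (u : G) : Prop where
  le : F ≤ (S : Subgroup G)
  mem : u ∈ F
  not_mem : u ∉ A
  sq : u * u = 1
  mem_iff : ∀ w, w ∈ F ↔ w ∈ A ⊓ centralizer ({u} : Set G) ∨ u * w ∈ A ⊓ centralizer ({u} : Set G)

variable {F : Subgroup G} {u : G}

include h

theorem exists_two (hu' : u ∈ (S : Subgroup G)) (huA : u ∉ A) (hu2 : u * u = 1) : ∃ F, Two S A F u := by
  set C := A ⊓ centralizer ({u} : Set G) with hC
  have hcu : ∀ c ∈ C, u * c = c * u := fun c hc => (mem_centralizer_singleton_iff.1 hc.2).symm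
  let F : Subgroup G :=
    { carrier := {w | w ∈ C ∨ u * w ∈ C}
      one_mem' := Or.inl (one_mem C)
      mul_mem' := by
        rintro v w (hv | hv) (hw | hw)
        · exact Or.inl (mul_mem hv hw)
        · refine Or.inr ?_
          rw [← mul_assoc, hcu v hv, mul_assoc]
          exact mul_mem hv hw
        · exact Or.inr (by rw [← mul_assoc]; exact mul_mem hv hw)
        · refine Or.inl ?_
          have := mul_mem hv hw
          rwa [← mul_assoc, ← hcu _ hv, ← mul_assoc, hu2, one_mul] at this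
      inv_mem' := by
        rintro v (hv | hv)
        · exact Or.inl (inv_mem hv)
        · refine Or.inr ?_
          have e := inv_mem hv
          have e2 := hcu _ e
          rw [mul_inv_rev, inv_eq_of_mul_eq_one_right hu2] at e e2
          have e3 : u * v⁻¹ = v⁻¹ * u := by
            have := congrArg (· * u) e2
            simpa [mul_assoc, hu2] using this
          rw [e3]; exact e }
  refine ⟨F, ⟨?_, Or.inr (by rw [hu2]; exact one_mem C), huA, hu2, fun w => Iff.rfl⟩⟩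
  rintro w (hw | hw)
  · exact h.le hw.1
  · have := mul_mem hu' (h.le hw.1)
    rwa [← mul_assoc, hu2, one_mul] at this

namespace Two

variable (t : Two S A F u)

include t

theorem mem_of_inf {w : G} (hw : w ∈ A ⊓ centralizer ({u} : Set G)) : w ∈ F := (t.mem_iff w).2 (Or.inl hw)

theorem comm : ∀ x ∈ F, ∀ y ∈ F, x * y = y * x := by
  have hcu : ∀ c ∈ A ⊓ centralizer ({u} : Set G), Commute u c := fun c hc =>
    (mem_centralizer_singleton_iff.1 hc.2).symm
  have h1 : ∀ x ∈ F, Commute u x := fun x hx => ((t.mem_iff x).1 hx).elim (hcu x) fun e => by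
    have := (Commute.refl u).inv_right.mul_right (hcu _ e)
    rwa [inv_mul_cancel_left] at this
  intro x hx y hy
  have h2 : ∀ z ∈ F, ∀ c ∈ A ⊓ centralizer ({u} : Set G), Commute z c := fun z hz c hc =>
    ((t.mem_iff z).1 hz).elim (fun e => h.comm z e.1 c hc.1) fun e => by
      have := (hcu c hc).inv_left.mul_left (show Commute (u * z) c from h.comm _ e.1 c hc.1)
      rwa [inv_mul_cancel_left] at this
  rcases (t.mem_iff y).1 hy with e | e
  · exact h2 x hx y e
  · have := (h1 x hx).symm.inv_right.mul_right (h2 x hx _ e)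
    rwa [inv_mul_cancel_left] at this

theorem sq_eq : ∀ x ∈ F, x * x = 1 := fun x hx => by
  rcases (t.mem_iff x).1 hx with e | e
  · exact h.sq x e.1
  · have e1 := h.sq _ e.1
    rwa [mul_assoc, ← mul_assoc x u x, (t.comm h x hx u t.mem), mul_assoc, ← mul_assoc u u, t.sq, one_mul] at e1

theorem mem_inf_iff {w : G} (hw : w ∈ F) : w ∈ A ↔ w ∈ A ⊓ centralizer ({u} : Set G) :=
  ⟨fun e => ⟨e, mem_centralizer_singleton_iff.2 (t.comm h w hw u t.mem)⟩, fun e => e.1⟩

theorem index_two : (A.subgroupOf F).index = 2 := by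
  refine Subgroup.index_eq_two_iff.2 ⟨⟨u, t.mem⟩, fun w => ?_⟩
  show Xor' ((w : G) * u ∈ A) ((w : G) ∈ A)
  rw [t.comm h _ w.2 _ t.mem]
  rcases (t.mem_iff w).1 w.2 with e | e
  · exact Or.inr ⟨e.1, fun e' => t.not_mem ((A.mul_mem_cancel_right e.1).1 e')⟩
  · exact Or.inl ⟨e.1, fun e' => t.not_mem ((A.mul_mem_cancel_right e').1 e.1)⟩

theorem card_eq : Nat.card ↥F = 32 := by
  have h1 := (A.subgroupOf F).card_mul_index
  rw [t.index_two h] at h1
  have h2 : Nat.card ↥(A.subgroupOf F) = 16 := by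
    rw [← h.cent_inv u (t.le t.mem) t.not_mem t.sq]
    refine Nat.card_congr ⟨fun w => ⟨w.1.1, (t.mem_inf_iff h w.1.2).1 w.2⟩,
      fun c => ⟨⟨c.1, t.mem_of_inf h c.2⟩, c.2.1⟩, fun w => rfl, fun c => rfl⟩
  omega

/-- Commutators of elements of `S` normalising `F` centralise it. -/
theorem comm_act {s₁ s₂ : G} (h₁ : s₁ ∈ (S : Subgroup G)) (h₁F : s₁ ∈ normalizer (F : Set G))
    (h₂ : s₂ ∈ (S : Subgroup G)) (h₂F : s₂ ∈ normalizer (F : Set G)) : ⁅s₁, s₂⁆ ∈ centralizer (F : Set G) := by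
  have huS := t.le t.mem
  have hcent : ∀ z : G, Commute u z → (∀ c ∈ A, Commute u c → Commute c z) → z ∈ centralizer (F : Set G) := by
    refine fun z hz hz' => mem_centralizer_iff.2 fun w hw => ?_
    rcases (t.mem_iff w).1 hw with e | e
    · exact hz' w e.1 (mem_centralizer_singleton_iff.1 e.2).symm
    · have := hz.inv_left.mul_left (hz' _ e.1 (mem_centralizer_singleton_iff.1 e.2).symm)
      rwa [inv_mul_cancel_left] at this
  rcases h.cases u huS t.not_mem t.sq with hl | hr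
  swap
  · exact hcent _ (hr _ h₁ _ h₂).1 fun c hc huc => (hr _ h₁ _ h₂).2 c hc huc
  -- the action is that of `A` and one more element
  have hA : ∀ s ∈ (S : Subgroup G), s ∈ normalizer (F : Set G) → ⁅s, u⁆ ∈ A := by
    intro s hs hsF
    have e1 : s * u * s⁻¹ ∈ F := (mem_normalizer_iff.1 hsF u).1 t.mem
    have e2 : s * u * s⁻¹ ∉ A := fun e => t.not_mem ((mem_normalizer_iff.1 (h.norm hs) u).2 e)
    rw [commutatorElement_def, inv_eq_of_mul_eq_one_right t.sq, ← t.comm h u t.mem _ e1]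
    exact (((t.mem_iff _).1 e1).resolve_left fun e => e2 e.1).1
  have hu_c : u ∈ centralizer (F : Set G) := mem_centralizer_iff.2 fun w hw => t.comm h w hw u t.mem
  have hga : ∀ g ∈ (S : Subgroup G), ⁅g, u⁆ ∈ A → ∀ a ∈ A, ⁅g, a⁆ ∈ centralizer (F : Set G) := by
    intro g hg hgu a ha
    have hgaA : ⁅g, a⁆ ∈ A := by
      rw [commutatorElement_def]
      exact mul_mem ((mem_normalizer_iff.1 (h.norm hg) a).1 ha) (inv_mem ha)
    exact hcent _ (h.acts u huS t.not_mem t.sq g hg hgu a ha) fun c hc _ => h.comm c hc _ hgaA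
  set φ := F.normalizerMonoidHom with hφ
  have hker : ∀ x : normalizer (F : Set G), φ x = 1 ↔ (x : G) ∈ centralizer (F : Set G) := fun x => by
    rw [← MonoidHom.mem_ker, hφ, normalizerMonoidHom_ker, mem_subgroupOf]
  have hcomm : ∀ x y : normalizer (F : Set G), Commute (φ x) (φ y) ↔ ⁅(x : G), (y : G)⁆ ∈ centralizer (F : Set G) :=
    fun x y => by rw [← commutatorElement_eq_one_iff_commute, ← map_commutatorElement, hker]; rfl
  have key : ∀ s : normalizer (F : Set G), (s : G) ∈ (S : Subgroup G) → ∀ a ∈ A, (a ∈ normalizer (F : Set G)) →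
      ⁅(s : G), a⁆ ∈ centralizer (F : Set G) := fun s hs a ha _ => hga _ hs (hA _ hs s.2) a ha
  by_cases hg : ∃ g ∈ (S : Subgroup G), g ∈ normalizer (F : Set G) ∧ g ∉ A ∧ u * g ∉ A
  swap
  · have hsA : ∀ s ∈ (S : Subgroup G), s ∈ normalizer (F : Set G) → s ∈ A ∨ u * s ∈ A := fun s hs hsF => by
      by_contra hh
      exact hg ⟨s, hs, hsF, fun e => hh (Or.inl e), fun e => hh (Or.inr e)⟩
    have huF : u ∈ normalizer (F : Set G) := le_normalizer t.mem
    have hred : ∀ (s : normalizer (F : Set G)), (s : G) ∈ (S : Subgroup G) →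
        ∃ a : normalizer (F : Set G), (a : G) ∈ A ∧ φ s = φ a := fun s hs => by
      rcases hsA _ hs s.2 with e | e
      · exact ⟨s, e, rfl⟩
      · exact ⟨⟨u, huF⟩ * s, e, by rw [map_mul, (hker ⟨u, huF⟩).2 hu_c, one_mul]⟩
    obtain ⟨a, ha, hae⟩ := hred ⟨s₁, h₁F⟩ h₁
    obtain ⟨b, hb, hbe⟩ := hred ⟨s₂, h₂F⟩ h₂
    refine (hcomm ⟨s₁, h₁F⟩ ⟨s₂, h₂F⟩).1 (hae ▸ hbe ▸ (hcomm a b).2 ?_)
    rw [commutatorElement_eq_one_iff_commute.2 (h.comm _ ha _ hb)]
    exact one_mem _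
  obtain ⟨g, hgS, hgF, hgA, hugA⟩ := hg
  have huF : u ∈ normalizer (F : Set G) := le_normalizer t.mem
  set γ : normalizer (F : Set G) := ⟨g, hgF⟩ with hγ
  have hred : ∀ (s : normalizer (F : Set G)), (s : G) ∈ (S : Subgroup G) →
      ∃ a : normalizer (F : Set G), (a : G) ∈ A ∧ (φ s = φ a ∨ φ s = (φ γ)⁻¹ * φ a) := by
    intro s hs
    have hgu := hA g hgS hgF
    rcases hl g hgS hgA hugA hgu s hs (hA _ hs s.2) with e | e | e | e
    · exact ⟨s, e, Or.inl rfl⟩
    · exact ⟨⟨u, huF⟩ * s, e, Or.inl (by rw [map_mul, (hker ⟨u, huF⟩).2 hu_c, one_mul])⟩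
    · exact ⟨γ * s, e, Or.inr (by rw [map_mul, inv_mul_cancel_left])⟩
    · exact ⟨⟨u, huF⟩ * γ * s, e, Or.inr (by
        rw [map_mul, map_mul, (hker ⟨u, huF⟩).2 hu_c, one_mul, inv_mul_cancel_left])⟩
  obtain ⟨a, ha, hae⟩ := hred ⟨s₁, h₁F⟩ h₁
  obtain ⟨b, hb, hbe⟩ := hred ⟨s₂, h₂F⟩ h₂
  refine (hcomm ⟨s₁, h₁F⟩ ⟨s₂, h₂F⟩).1 ?_
  have hab : Commute (φ a) (φ b) := (hcomm a b).2 (by
    rw [commutatorElement_eq_one_iff_commute.2 (h.comm _ ha _ hb)]; exact one_mem _)
  have hga' : Commute (φ γ) (φ a) := (hcomm γ a).2 (key γ hgS _ ha a.2)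
  have hgb : Commute (φ γ) (φ b) := (hcomm γ b).2 (key γ hgS _ hb b.2)
  rcases hae with e | e <;> rcases hbe with e' | e' <;> rw [e, e']
  · exact hab
  · exact hga'.inv_left.symm.mul_right hab
  · exact (hgb.inv_left).mul_left hab
  · exact ((Commute.refl _).mul_left hga'.inv_left.symm).mul_right (hgb.inv_left.mul_left hab)

/-- The same for the conjugate by an element normalising `A`. -/
theorem conj {k : G} (hk : k ∈ normalizer (A : Set G)) (hkS : ∀ x ∈ F, k * x * k⁻¹ ∈ (S : Subgroup G)) :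
    Two S A (F.map (MulAut.conj k).toMonoidHom) (k * u * k⁻¹) := by
  have hC : ∀ w, w ∈ A ⊓ centralizer ({u} : Set G) ↔
      k * w * k⁻¹ ∈ A ⊓ centralizer ({k * u * k⁻¹} : Set G) := by
    intro w
    simp only [Subgroup.mem_inf, mem_centralizer_singleton_iff]
    refine and_congr (mem_normalizer_iff.1 hk w) ⟨fun e => ?_, fun e => ?_⟩
    · calc k * w * k⁻¹ * (k * u * k⁻¹) = k * (w * u) * k⁻¹ := by group
        _ = k * u * k⁻¹ * (k * w * k⁻¹) := by rw [e]; group
    · calc w * u = k⁻¹ * (k * w * k⁻¹ * (k * u * k⁻¹)) * k := by group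
        _ = u * w := by rw [e]; group
  refine ⟨?_, mem_map_of_mem _ t.mem, fun e => t.not_mem ((mem_normalizer_iff.1 hk u).2 e), ?_, fun w => ?_⟩
  · rintro _ ⟨x, hx, rfl⟩
    exact hkS x hx
  · rw [show k * u * k⁻¹ * (k * u * k⁻¹) = k * (u * u) * k⁻¹ by group, t.sq]; group
  · have hm : w ∈ F.map (MulAut.conj k).toMonoidHom ↔ k⁻¹ * w * k ∈ F := by
      constructor
      · rintro ⟨x, hx, rfl⟩
        simpa [mul_assoc] using hx
      · exact fun e => ⟨_, e, by simp [mul_assoc]⟩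
    rw [hm, t.mem_iff, hC, hC (u * (k⁻¹ * w * k)), show k * (k⁻¹ * w * k) * k⁻¹ = w by group,
      show k * (u * (k⁻¹ * w * k)) * k⁻¹ = k * u * k⁻¹ * w by group]

/-- An element of `A` moving `u` into a given subgroup of index 2 of `F`. -/
theorem exists_moving {B : Subgroup G} (hB : (B.subgroupOf F).index = 2) :
    ∃ a ∈ A, ¬ Commute a u ∧ ∀ w ∈ F, a * w * a⁻¹ * w⁻¹ ∈ B := by
  set C := A ⊓ centralizer ({u} : Set G) with hC
  have h16 : Nat.card ↥C = 16 := h.cent_inv u (t.le t.mem) t.not_mem t.sq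
  have hAN := le_normalizer_of_elem h t.le (t.comm h) (t.sq_eq h) (t.card_eq h)
  set l : G → G := fun a => a * u * a⁻¹ * u⁻¹ with hl
  have hlC : ∀ a ∈ A, l a ∈ F ∧ l a ∈ A := fun a ha => ⟨mul_mem ((mem_normalizer_iff.1 (hAN ha) u).1 t.mem) (inv_mem t.mem), by
    rw [hl]
    dsimp only
    rw [mul_assoc, mul_assoc, ← mul_assoc u]
    exact mul_mem ha ((mem_normalizer_iff.1 (h.norm (t.le t.mem)) _).1 (inv_mem ha))⟩
  have hsimple : ∀ a ∈ A, l a ∈ B → ∀ w ∈ F, a * w * a⁻¹ * w⁻¹ ∈ B := by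
    intro a ha hla w hw
    rcases (t.mem_iff w).1 hw with e | e
    · rw [h.comm a ha w e.1, mul_inv_cancel_right, mul_inv_cancel]; exact one_mem B
    · have e1 : a * w * a⁻¹ * w⁻¹ = l a := by
        have e2 : a * (u * w) * a⁻¹ = u * w := by rw [h.comm a ha _ e.1, mul_inv_cancel_right]
        have e3 : w = u * (u * w) := by rw [← mul_assoc, t.sq, one_mul]
        calc a * w * a⁻¹ * w⁻¹ = a * u * a⁻¹ * (a * (u * w) * a⁻¹) * w⁻¹ := by
              conv_lhs => enter [1, 1, 2]; rw [e3]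
              group
          _ = l a := by rw [e2, hl]; simp only [inv_eq_of_mul_eq_one_right t.sq]; group
      rw [e1]; exact hla
  obtain ⟨a1, ha1, hc1⟩ : ∃ a ∈ A, ¬ Commute a u := by
    by_contra hh
    push Not at hh
    have : A ≤ C := fun a ha => ⟨ha, mem_centralizer_singleton_iff.2 (hh a ha)⟩
    have := card_le_of_le this
    rw [h.cardA, h16] at this
    omega
  obtain ⟨a2, ha2, hc2, hc12⟩ : ∃ a ∈ A, ¬ Commute a u ∧ ¬ Commute (a1 * a) u := by
    by_contra hh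
    have hsub : (A : Set G) ⊆ (C : Set G) ∪ (fun x => a1⁻¹ * x) '' (C : Set G) := by
      intro a ha
      by_cases hca : Commute a u
      · exact Or.inl ⟨ha, mem_centralizer_singleton_iff.2 hca⟩
      · refine Or.inr ⟨a1 * a, ⟨mul_mem ha1 ha, mem_centralizer_singleton_iff.2 ?_⟩, inv_mul_cancel_left a1 a⟩
        by_contra h'
        exact hh ⟨a, ha, hca, h'⟩
    have hn := (Set.ncard_le_ncard hsub (Set.toFinite _)).trans (Set.ncard_union_le _ _)
    rw [Set.ncard_image_of_injective _ (mul_right_injective _), ← Nat.card_coe_set_eq, ← Nat.card_coe_set_eq] at hn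
    change Nat.card ↥A ≤ Nat.card ↥C + Nat.card ↥C at hn
    rw [h.cardA, h16] at hn
    omega
  by_cases hb1 : l a1 ∈ B
  · exact ⟨a1, ha1, hc1, hsimple a1 ha1 hb1⟩
  by_cases hb2 : l a2 ∈ B
  · exact ⟨a2, ha2, hc2, hsimple a2 ha2 hb2⟩
  refine ⟨a1 * a2, mul_mem ha1 ha2, hc12, hsimple _ (mul_mem ha1 ha2) ?_⟩
  have hprod : l (a1 * a2) = l a2 * l a1 := by
    have e : a1 * l a2 = l a2 * a1 := h.comm _ ha1 _ (hlC a2 ha2).2
    calc l (a1 * a2) = (a1 * l a2) * (u * a1⁻¹ * u⁻¹) := by simp only [hl]; group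
      _ = l a2 * l a1 := by rw [e]; simp only [hl]; group
  rw [hprod]
  exact mem_subgroupOf.1 ((mul_mem_iff_of_index_two hB (a := ⟨_, (hlC a2 ha2).1⟩) (b := ⟨_, (hlC a1 ha1).1⟩)).2
    ⟨fun e => absurd (mem_subgroupOf.1 e) hb2, fun e => absurd (mem_subgroupOf.1 e) hb1⟩)

include hu

/-- Every element normalising `F` normalises `F ⊓ A`. -/
theorem fix {n : G} (hn : n ∈ normalizer (F : Set G)) {w : G} (hw : w ∈ F) : w ∈ A ↔ n * w * n⁻¹ ∈ A := by
  classical
  haveI := Fact.mk Nat.prime_two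
  set N := normalizer (F : Set G) with hN
  have hAN : A ≤ N := le_normalizer_of_elem h t.le (t.comm h) (t.sq_eq h) (t.card_eq h)
  obtain ⟨T, hAT, hTN, hTp, hTi⟩ := CfsgLib.Transfer.exists_sylow_of_le hAN (S.2.to_le h.le)
  obtain ⟨k, hk, hkT⟩ := exists_normalizer_sylow h hu hTp hAT
  have hFp : IsPGroup 2 F := S.2.to_le t.le
  have hFT : F ≤ T := by
    obtain ⟨c, hc, hcT⟩ := CfsgLib.Transfer.exists_conj_le hTp hTi (le_normalizer : F ≤ N) hFp
    intro x hx
    have := hcT _ ((mem_normalizer_iff.1 hc x).1 hx)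
    simpa [mul_assoc] using this
  have tk := t.conj h hk fun x hx => hkT x (hFT hx)
  have hTcomm : ∀ x ∈ T, ∀ y ∈ T, ⁅x, y⁆ ∈ centralizer (F : Set G) := by
    intro x hx y hy
    have hk' : ∀ z ∈ T, k * z * k⁻¹ ∈ normalizer ((F.map (MulAut.conj k).toMonoidHom : Subgroup G) : Set G) := by
      intro z hz
      refine mem_normalizer_iff.2 fun v => ?_
      have hm : ∀ v : G, v ∈ F.map (MulAut.conj k).toMonoidHom ↔ k⁻¹ * v * k ∈ F := fun v => by
        constructor
        · rintro ⟨x, hx, rfl⟩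
          simpa [mul_assoc] using hx
        · exact fun e => ⟨_, e, by simp [mul_assoc]⟩
      rw [hm, hm, mem_normalizer_iff.1 (hTN hz) (k⁻¹ * v * k)]
      simp [mul_assoc]
    have e := tk.comm_act h (hkT x hx) (hk' x hx) (hkT y hy) (hk' y hy)
    refine mem_centralizer_iff.2 fun v hv => ?_
    have e' := mem_centralizer_iff.1 e (k * v * k⁻¹) (mem_map_of_mem _ hv)
    rw [show ⁅k * x * k⁻¹, k * y * k⁻¹⁆ = k * ⁅x, y⁆ * k⁻¹ by simp only [commutatorElement_def]; group] at e'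
    have e'' := congrArg (fun z => k⁻¹ * z * k) e'
    simpa [mul_assoc] using e''
  -- the action on `F`
  set φ := F.normalizerMonoidHom with hφ
  set ρ := φ.rangeRestrict with hρ
  have hρs : Function.Surjective ρ := φ.rangeRestrict_surjective
  have hρeq : ∀ x y : N, ρ x = ρ y → ∀ v ∈ F, (x : G) * v * (x : G)⁻¹ = (y : G) * v * (y : G)⁻¹ :=
    fun x y e v hv => by
      have h0 := congrArg (Subtype.val : F → G) (DFunLike.congr_fun (congrArg Subtype.val e : φ x = φ y) ⟨v, hv⟩)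
      rw [← normalizerMonoidHom_apply_apply_coe F x ⟨v, hv⟩, ← normalizerMonoidHom_apply_apply_coe F y ⟨v, hv⟩]
      exact h0
  let T' : Sylow 2 N := (hTp.comap_subtype (K := N)).toSylow hTi
  let U := T'.mapSurjective hρs
  have hU : (U : Subgroup φ.range) = (T.subgroupOf N).map ρ := Sylow.coe_mapSurjective _ _
  have hUc : IsMulCommutative (U : Subgroup φ.range) := by
    refine ⟨⟨fun p q => Subtype.ext ?_⟩⟩
    obtain ⟨x, hx, hxe⟩ : (p : φ.range) ∈ (T.subgroupOf N).map ρ := hU ▸ p.2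
    obtain ⟨y, hy, hye⟩ : (q : φ.range) ∈ (T.subgroupOf N).map ρ := hU ▸ q.2
    show (p : φ.range) * q = q * p
    rw [← hxe, ← hye]
    refine Subtype.ext ?_
    show φ x * φ y = φ y * φ x
    refine commutatorElement_eq_one_iff_commute.1 ?_
    rw [← map_commutatorElement, ← MonoidHom.mem_ker, hφ, normalizerMonoidHom_ker, mem_subgroupOf]
    exact hTcomm _ hx _ hy
  have hfixA : ∀ m : N, (m : G) ∈ normalizer (A : Set G) → ∀ v ∈ F, v ∈ A ↔ (m : G) * v * (m : G)⁻¹ ∈ A :=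
    fun m hm v _ => mem_normalizer_iff.1 hm v
  -- lifts of elements normalising the image fix `F ⊓ A`
  have hNU : ∀ m : N, ρ m ∈ normalizer ((U : Subgroup φ.range) : Set φ.range) → ∀ v ∈ F,
      v ∈ A ↔ (m : G) * v * (m : G)⁻¹ ∈ A := by
    intro m hm
    set K := centralizer (F : Set G) ⊓ N with hK
    have hconj : ∀ a ∈ A, ∃ z ∈ T, ∀ v ∈ F, ((m : G) * a * (m : G)⁻¹) * v * ((m : G) * a * (m : G)⁻¹)⁻¹ = z * v * z⁻¹ := by
      intro a ha
      have hmem : ρ (m * ⟨a, hAN ha⟩ * m⁻¹) ∈ (T.subgroupOf N).map ρ := by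
        rw [map_mul, map_mul, map_inv, ← hU]
        refine (mem_normalizer_iff.1 hm _).1 ?_
        rw [hU]
        exact mem_map_of_mem _ (mem_subgroupOf.2 (hAT ha))
      obtain ⟨z, hz, hze⟩ := hmem
      exact ⟨z, hz, fun v hv => (hρeq _ _ hze v hv).symm⟩
    set W := T ⊔ K with hW
    have hKn : N ≤ normalizer (K : Set G) := by
      intro x hx
      refine mem_normalizer_iff.2 fun z => ?_
      have hone : ∀ x ∈ N, ∀ z ∈ K, x * z * x⁻¹ ∈ K := fun x hx z hz =>
        ⟨mem_centralizer_iff.2 fun v hv => by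
          have e := mem_centralizer_iff.1 hz.1 (x⁻¹ * v * x) (by
            have := (mem_normalizer_iff.1 (inv_mem hx) v).1 hv
            simpa [hN, mul_assoc] using this)
          calc v * (x * z * x⁻¹) = x * ((x⁻¹ * v * x) * z) * x⁻¹ := by group
            _ = x * z * x⁻¹ * v := by rw [e]; group, N.mul_mem (N.mul_mem hx hz.2) (N.inv_mem hx)⟩
      exact ⟨hone x hx z, fun e => by simpa [mul_assoc] using hone x⁻¹ (inv_mem hx) _ e⟩
    have hmAW : A.map (MulAut.conj (m : G)).toMonoidHom ≤ W := by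
      rintro _ ⟨a, ha, rfl⟩
      obtain ⟨z, hz, hze⟩ := hconj a ha
      show (m : G) * a * (m : G)⁻¹ ∈ W
      rw [← mul_inv_cancel_left z ((m : G) * a * (m : G)⁻¹)]
      refine mul_mem (mem_sup_left hz) (mem_sup_right ⟨mem_centralizer_iff.2 fun v hv => ?_,
        N.mul_mem (N.inv_mem (hTN hz)) (N.mul_mem (N.mul_mem m.2 (hAN ha)) (N.inv_mem m.2))⟩)
      calc v * (z⁻¹ * ((m : G) * a * (m : G)⁻¹)) = z⁻¹ * (z * v * z⁻¹) * ((m : G) * a * (m : G)⁻¹) := by group
        _ = z⁻¹ * ((m : G) * a * (m : G)⁻¹) * v := by rw [← hze v hv]; group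
    have hWN : W ≤ N := sup_le hTN inf_le_right
    have hTW : ¬ 2 ∣ T.relIndex W := fun hd => hTi (hd.trans
      (Dvd.intro _ (relIndex_mul_relIndex T W N le_sup_left hWN)))
    obtain ⟨c, hc, hcT⟩ := CfsgLib.Transfer.exists_conj_le hTp hTW hmAW ((S.2.to_le h.le).map _)
    have hcm : c⁻¹ * (m : G) ∈ normalizer (A : Set G) := by
      refine mem_normalizer_of_conj h hu hTp hAT fun a ha => ?_
      simpa [mul_assoc] using hcT _ (mem_map_of_mem (MulAut.conj (m : G)).toMonoidHom ha)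
    have hTA : T ≤ normalizer (A : Set G) := fun x hx =>
      mem_normalizer_of_conj h hu hTp hAT fun a ha => mul_mem (mul_mem hx (hAT ha)) (inv_mem hx)
    have hcfix : ∀ v ∈ F, v ∈ A ↔ c * v * c⁻¹ ∈ A := by
      intro v hv
      have hc' : c ∈ ((T ⊔ K : Subgroup G) : Set G) := hc
      rw [coe_mul_of_left_le_normalizer_right _ _ (hTN.trans hKn)] at hc'
      obtain ⟨z, hz, y, hy, rfl⟩ := hc'
      have e : y * v * y⁻¹ = v := by rw [← mem_centralizer_iff.1 hy.1 v hv, mul_inv_cancel_right]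
      show v ∈ A ↔ z * y * v * (z * y)⁻¹ ∈ A
      rw [show z * y * v * (z * y)⁻¹ = z * (y * v * y⁻¹) * z⁻¹ by group, e]
      exact mem_normalizer_iff.1 (hTA hz) v
    intro v hv
    have hcN : c ∈ N := hWN hc
    have hv' : c⁻¹ * (m : G) * v * (c⁻¹ * (m : G))⁻¹ ∈ F :=
      (mem_normalizer_iff.1 (mul_mem (inv_mem hcN) m.2) v).1 hv
    rw [hfixA (⟨c⁻¹ * m, mul_mem (inv_mem hcN) m.2⟩ : N) hcm v hv]
    show c⁻¹ * (m : G) * v * (c⁻¹ * (m : G))⁻¹ ∈ A ↔ _
    rw [hcfix _ hv']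
    simp [mul_assoc]
  -- two commuting movers
  set B := (A.map (MulAut.conj n).toMonoidHom) with hB
  have hBmem : ∀ v, v ∈ B ↔ n⁻¹ * v * n ∈ A := fun v => by
    constructor
    · rintro ⟨x, hx, rfl⟩
      simpa [mul_assoc] using hx
    · exact fun e => ⟨_, e, by simp [mul_assoc]⟩
  set D := (A.map (MulAut.conj n⁻¹).toMonoidHom) with hD
  have hDmem : ∀ v, v ∈ D ↔ n * v * n⁻¹ ∈ A := fun v => by
    constructor
    · rintro ⟨x, hx, rfl⟩
      simpa [mul_assoc] using hx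
    · exact fun e => ⟨_, e, by simp [mul_assoc]⟩
  have hidx : ∀ m ∈ N, ((A.map (MulAut.conj m).toMonoidHom).subgroupOf F).index = 2 := by
    intro m hm
    refine Subgroup.index_eq_two_iff.2 ⟨⟨m * u * m⁻¹, (mem_normalizer_iff.1 hm u).1 t.mem⟩, fun v => ?_⟩
    have hv : m⁻¹ * v * m ∈ F := by
      have := (mem_normalizer_iff.1 (inv_mem hm) v).1 v.2
      simpa using this
    have hmm : ∀ z, z ∈ A.map (MulAut.conj m).toMonoidHom ↔ m⁻¹ * z * m ∈ A := fun z => by
      constructor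
      · rintro ⟨x, hx, rfl⟩
        simpa [mul_assoc] using hx
      · exact fun e => ⟨_, e, by simp [mul_assoc]⟩
    show Xor' ((v : G) * (m * u * m⁻¹) ∈ A.map _) ((v : G) ∈ A.map _)
    rw [hmm, hmm, show m⁻¹ * ((v : G) * (m * u * m⁻¹)) * m = m⁻¹ * v * m * u by group]
    rw [t.comm h _ hv _ t.mem]
    rcases (t.mem_iff _).1 hv with e | e
    · exact Or.inr ⟨e.1, fun e' => t.not_mem ((A.mul_mem_cancel_right e.1).1 e')⟩
    · exact Or.inl ⟨e.1, fun e' => t.not_mem ((A.mul_mem_cancel_right e').1 e.1)⟩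
  obtain ⟨a, ha, hac, hamove⟩ := t.exists_moving h (hidx n hn)
  obtain ⟨b, hb, hbc, hbmove⟩ := t.exists_moving h (hidx n⁻¹ (inv_mem hn))
  have hfix : ∀ x ∈ A, ¬ Commute x u → ∀ v ∈ F, (x * v * x⁻¹ = v ↔ v ∈ A) := by
    intro x hx hxu v hv
    refine ⟨fun e => ?_, fun e => by rw [h.comm x hx v e, mul_inv_cancel_right]⟩
    rcases (t.mem_iff v).1 hv with e' | e'
    · exact e'.1
    · refine absurd ?_ hxu
      have h1 : Commute x v := mul_inv_eq_iff_eq_mul.1 e
      have h2 : Commute x (u * v) := h.comm x hx _ e'.1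
      simpa using h2.mul_right h1.inv_right
  set α : N := ⟨a, hAN ha⟩ with hα
  set β : N := ⟨b, hAN hb⟩ with hβ
  set ν : N := ⟨n, hn⟩ with hν
  have hcomm : Commute (ρ α) (ρ (ν * β * ν⁻¹)) := by
    refine Subtype.ext (MulEquiv.ext fun v => Subtype.ext ?_)
    show a * ((n * b * n⁻¹) * (v : G) * (n * b * n⁻¹)⁻¹) * a⁻¹ = (n * b * n⁻¹) * (a * (v : G) * a⁻¹) * (n * b * n⁻¹)⁻¹
    have hv := v.2
    set d := a * (v : G) * a⁻¹ * (v : G)⁻¹ with hd
    have hdB : d ∈ B := hamove _ hv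
    have hv' : n⁻¹ * (v : G) * n ∈ F := by simpa using (mem_normalizer_iff.1 (inv_mem hn) (v : G)).1 hv
    set e := b * (n⁻¹ * (v : G) * n) * b⁻¹ * (n⁻¹ * (v : G) * n)⁻¹ with he
    have heD : e ∈ D := hbmove _ hv'
    rw [hBmem] at hdB
    rw [hDmem] at heD
    have hbd : b * (n⁻¹ * d * n) * b⁻¹ = n⁻¹ * d * n := by rw [h.comm b hb _ hdB, mul_inv_cancel_right]
    have hae : a * (n * e * n⁻¹) * a⁻¹ = n * e * n⁻¹ := by rw [h.comm a ha _ heD, mul_inv_cancel_right]
    have hsw : d * (n * e * n⁻¹) = n * e * n⁻¹ * d := by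
      have hdF : d ∈ F := mul_mem ((mem_normalizer_iff.1 (hAN ha) _).1 hv) (inv_mem hv)
      refine t.comm h d hdF _ ((mem_normalizer_iff.1 hn e).1 ?_)
      exact mul_mem ((mem_normalizer_iff.1 (hAN hb) _).1 hv') (inv_mem hv')
    calc a * ((n * b * n⁻¹) * (v : G) * (n * b * n⁻¹)⁻¹) * a⁻¹
        = (a * (n * e * n⁻¹) * a⁻¹) * (a * (v : G) * a⁻¹) := by rw [he]; group
      _ = (n * e * n⁻¹) * (d * (v : G)) := by rw [hae, hd]; group
      _ = d * (n * e * n⁻¹) * (v : G) := by rw [← mul_assoc, hsw]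
      _ = (n * (b * (n⁻¹ * d * n) * b⁻¹) * n⁻¹) * ((n * e * n⁻¹) * (v : G)) := by rw [hbd]; group
      _ = (n * b * n⁻¹) * (a * (v : G) * a⁻¹) * (n * b * n⁻¹)⁻¹ := by rw [he, hd]; group
  -- both go into one Sylow subgroup of the image
  set X := closure ({ρ α, ρ (ν * β * ν⁻¹)} : Set φ.range) with hX
  have hXp : IsPGroup 2 X := by
    have hp : ∀ x : φ.range, x = ρ α ∨ x = ρ (ν * β * ν⁻¹) → IsPGroup 2 ↥(zpowers x) := by
      have hS' : ∀ z : N, (z : G) * (z : G) = 1 → IsPGroup 2 ↥(zpowers (ρ z)) := fun z hz => by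
        refine IsPGroup.of_card (n := if ρ z = 1 then 0 else 1) ?_
        rw [Nat.card_zpowers]
        have h2 : (ρ z) ^ 2 = 1 := by rw [pow_two, ← map_mul, show z * z = 1 from Subtype.ext hz, map_one]
        split_ifs with h1
        · rw [h1, orderOf_one, pow_zero]
        · rw [pow_one]; exact orderOf_eq_prime h2 h1
      rintro x (rfl | rfl)
      · exact hS' α (h.sq a ha)
      · refine hS' _ ?_
        show n * b * n⁻¹ * (n * b * n⁻¹) = 1
        rw [show n * b * n⁻¹ * (n * b * n⁻¹) = n * (b * b) * n⁻¹ by group, h.sq b hb]; group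
    have e : X = zpowers (ρ α) ⊔ zpowers (ρ (ν * β * ν⁻¹)) := by
      rw [hX, zpowers_eq_closure, zpowers_eq_closure, ← Subgroup.closure_union, Set.singleton_union]
    rw [e]
    refine IsPGroup.to_sup_of_normal_right' (hp _ (Or.inl rfl)) (hp _ (Or.inr rfl)) ?_
    rw [zpowers_le]
    refine mem_normalizer_iff.2 fun z => ?_
    have hc : ∀ z ∈ zpowers (ρ (ν * β * ν⁻¹)), ρ α * z * (ρ α)⁻¹ = z := by
      rintro _ ⟨i, rfl⟩
      rw [(hcomm.zpow_right i).eq, mul_inv_cancel_right]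
    refine ⟨fun hz => (hc z hz).symm ▸ hz, fun hz => ?_⟩
    have := hc _ hz
    have e : z = ρ α * z * (ρ α)⁻¹ := by
      have h2 := congrArg (fun w => (ρ α)⁻¹ * w * ρ α) this
      simpa [mul_assoc] using h2.symm
    exact e ▸ hz
  obtain ⟨P, hP⟩ := hXp.exists_le_sylow
  obtain ⟨q, hq⟩ := MulAction.exists_smul_eq φ.range P U
  obtain ⟨κ', hκ⟩ := hρs q
  have hin : ∀ x ∈ X, ρ κ' * x * (ρ κ')⁻¹ ∈ (U : Subgroup φ.range) := fun x hx => by
    rw [hκ, ← hq, Sylow.coe_subgroup_smul]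
    exact Subgroup.smul_mem_pointwise_smul x (MulAut.conj q) _ (hP hx)
  have hinA : ∀ z : N, (z : G) ∈ A → ρ z ∈ (U : Subgroup φ.range) := fun z hz => by
    rw [hU]; exact mem_map_of_mem _ (mem_subgroupOf.2 (hAT hz))
  -- Burnside
  obtain ⟨μ, hμ, hμe⟩ := CfsgLib.Transfer.exists_normalizer_conj_of_isMulCommutative U hUc
    (X := {ρ α}) (Set.singleton_subset_iff.2 (hinA α ha)) (g := (ρ κ')⁻¹) (by
      rintro _ ⟨x, rfl, rfl⟩
      have := hin _ (subset_closure (Set.mem_insert (ρ α) {ρ (ν * β * ν⁻¹)}))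
      simp
      exact this)
  obtain ⟨μ', hμ', hμe'⟩ := CfsgLib.Transfer.exists_normalizer_conj_of_isMulCommutative U hUc
    (X := {ρ β}) (Set.singleton_subset_iff.2 (hinA β hb)) (g := (ρ (κ' * ν))⁻¹) (by
      rintro _ ⟨x, rfl, rfl⟩
      have := hin _ (subset_closure (Set.mem_insert_of_mem _ (Set.mem_singleton (ρ (ν * β * ν⁻¹)))))
      simp [map_mul, mul_assoc] at this ⊢
      exact this)
  obtain ⟨M, rfl⟩ := hρs μ
  obtain ⟨M', rfl⟩ := hρs μ'
  have hμ1 := hμe _ rfl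
  have hμ2 := hμe' _ rfl
  rw [← map_inv, ← map_inv, ← map_inv, ← map_mul, ← map_mul, ← map_mul, ← map_mul] at hμ1 hμ2
  -- compare fixed points
  have hcmp : ∀ (x : G), x ∈ A → ¬ Commute x u → ∀ (K M : N), (∀ hx : x ∈ N,
      ρ (M⁻¹ * ⟨x, hx⟩ * M) = ρ (K⁻¹⁻¹ * ⟨x, hx⟩ * K⁻¹)) →
      (∀ v ∈ F, v ∈ A ↔ (M : G) * v * (M : G)⁻¹ ∈ A) →
      ∀ v ∈ F, v ∈ A ↔ (K : G)⁻¹ * v * (K : G) ∈ A := by
    intro x hx hxu K M hKM hM v hv
    have hvK : (K : G)⁻¹ * v * (K : G) ∈ F := by simpa using (mem_normalizer_iff.1 (inv_mem K.2) v).1 hv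
    have hvM : (M : G) * v * (M : G)⁻¹ ∈ F := (mem_normalizer_iff.1 M.2 v).1 hv
    have e := hρeq _ _ (hKM (hAN hx)) v hv
    simp only [Subgroup.coe_mul, Subgroup.coe_inv, inv_inv] at e
    rw [hM v hv, ← hfix x hx hxu _ hvM, ← hfix x hx hxu _ hvK]
    constructor
    · intro e'
      calc x * ((K : G)⁻¹ * v * (K : G)) * x⁻¹
          = (K : G)⁻¹ * (((K : G) * x * (K : G)⁻¹) * v * ((K : G) * x * (K : G)⁻¹)⁻¹) * (K : G) := by group
        _ = (K : G)⁻¹ * v * (K : G) := by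
          rw [← e, show (M : G)⁻¹ * x * (M : G) * v * ((M : G)⁻¹ * x * (M : G))⁻¹ =
            (M : G)⁻¹ * (x * ((M : G) * v * (M : G)⁻¹) * x⁻¹) * (M : G) by group, e']
          group
    · intro e'
      calc x * ((M : G) * v * (M : G)⁻¹) * x⁻¹
          = (M : G) * (((M : G)⁻¹ * x * (M : G)) * v * ((M : G)⁻¹ * x * (M : G))⁻¹) * (M : G)⁻¹ := by group
        _ = (M : G) * v * (M : G)⁻¹ := by
          rw [e, show (K : G) * x * (K : G)⁻¹ * v * ((K : G) * x * (K : G)⁻¹)⁻¹ =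
            (K : G) * (x * ((K : G)⁻¹ * v * (K : G)) * x⁻¹) * (K : G)⁻¹ by group, e']
          group
  have c1 := hcmp a ha hac κ' M (fun _ => hμ1) (hNU M hμ)
  have c2 := hcmp b hb hbc (κ' * ν) M' (fun _ => hμ2) (hNU M' hμ')
  -- with `v = κ' (n w n⁻¹) κ'⁻¹`
  set v := (κ' : G) * (n * w * n⁻¹) * (κ' : G)⁻¹ with hv
  have hvF : v ∈ F := (mem_normalizer_iff.1 κ'.2 _).1 ((mem_normalizer_iff.1 hn w).1 hw)
  have d1 := c1 v hvF
  have d2 := c2 v hvF
  rw [show (κ' : G)⁻¹ * v * (κ' : G) = n * w * n⁻¹ by rw [hv]; group] at d1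
  rw [show ((κ' * ν : N) : G)⁻¹ * v * ((κ' * ν : N) : G) = w by
    show ((κ' : G) * n)⁻¹ * v * ((κ' : G) * n) = w
    rw [hv]; group] at d2
  exact d2.symm.trans d1

end Two

include hu

/-- `A` is strongly closed in `S`. -/
theorem isStronglyClosed : IsStronglyClosed A (S : Subgroup G) := by
  haveI := Fact.mk Nat.prime_two
  refine ⟨h.le, fun x hx g hg => ?_⟩
  by_contra hy
  set y := g * x * g⁻¹ with hy'
  have hy2 : y * y = 1 := by
    rw [hy', show g * x * g⁻¹ * (g * x * g⁻¹) = g * (x * x) * g⁻¹ by group, h.sq x hx]; group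
  obtain ⟨F, t⟩ := exists_two h hg hy hy2
  set C := centralizer ({x} : Set G) with hC
  have hAC : A ≤ C := fun a ha => mem_centralizer_singleton_iff.2 (h.comm a ha x hx)
  have hFC : F.map (MulAut.conj g⁻¹).toMonoidHom ≤ C := by
    rintro _ ⟨z, hz, rfl⟩
    refine mem_centralizer_singleton_iff.2 ?_
    show g⁻¹ * z * g⁻¹⁻¹ * x = x * (g⁻¹ * z * g⁻¹⁻¹)
    calc g⁻¹ * z * g⁻¹⁻¹ * x = g⁻¹ * (z * y) * g := by rw [hy']; group
      _ = x * (g⁻¹ * z * g⁻¹⁻¹) := by rw [t.comm h z hz y t.mem, hy']; group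
  obtain ⟨T, hAT, -, hTp, hTi⟩ := CfsgLib.Transfer.exists_sylow_of_le hAC (S.2.to_le h.le)
  obtain ⟨c, hc, hcT⟩ := CfsgLib.Transfer.exists_conj_le hTp hTi hFC ((S.2.to_le t.le).map _)
  obtain ⟨d, hd, hdT⟩ := exists_normalizer_sylow h hu hTp hAT
  set k := d * c⁻¹ * g⁻¹ with hk
  have hkS : ∀ z ∈ F, k * z * k⁻¹ ∈ (S : Subgroup G) := fun z hz => by
    have := hdT _ (hcT _ (mem_map_of_mem (MulAut.conj g⁻¹).toMonoidHom hz))
    simpa [hk, mul_assoc] using this
  have hky : k * y * k⁻¹ ∈ A := by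
    rw [hk, hy', show d * c⁻¹ * g⁻¹ * (g * x * g⁻¹) * (d * c⁻¹ * g⁻¹)⁻¹ = d * (c⁻¹ * x * c) * d⁻¹ by group,
      show c⁻¹ * x * c = x by
        rw [mul_assoc, ← (mem_centralizer_singleton_iff.1 hc : c * x = x * c), inv_mul_cancel_left]]
    exact (mem_normalizer_iff.1 hd x).1 hx
  have hAF := le_normalizer_of_elem h t.le (t.comm h) (t.sq_eq h) (t.card_eq h)
  -- `A` moved back normalises `F`
  set F' := F.map (MulAut.conj k).toMonoidHom with hF'
  have hAF' : A ≤ normalizer (F' : Set G) := by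
    refine le_normalizer_of_elem h ?_ ?_ ?_ ?_
    · rintro _ ⟨z, hz, rfl⟩
      exact hkS z hz
    · rintro _ ⟨z, hz, rfl⟩ _ ⟨z', hz', rfl⟩
      rw [← map_mul, ← map_mul, t.comm h z hz z' hz']
    · rintro _ ⟨z, hz, rfl⟩
      rw [← map_mul, t.sq_eq h z hz, map_one]
    · rw [← Nat.card_congr (F.equivMapOfInjective _ (MulAut.conj k).injective).toEquiv]
      exact t.card_eq h
  set A1 := A.map (MulAut.conj k⁻¹).toMonoidHom with hA1
  have hA1N : A1 ≤ normalizer (F : Set G) := by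
    rintro _ ⟨a, ha, rfl⟩
    refine mem_normalizer_iff.2 fun z => ?_
    have hm : ∀ v : G, v ∈ F ↔ k * v * k⁻¹ ∈ F' := fun v => by
      constructor
      · exact fun e => mem_map_of_mem (MulAut.conj k).toMonoidHom e
      · rintro ⟨w, hw, hwe⟩
        have : w = v := by simpa using hwe
        exact this ▸ hw
    rw [hm z, hm, mem_normalizer_iff.1 (hAF' ha) (k * z * k⁻¹)]
    simp [mul_assoc]
  obtain ⟨T₀, hAT₀, -, hT₀p, hT₀i⟩ := CfsgLib.Transfer.exists_sylow_of_le hAF (S.2.to_le h.le)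
  obtain ⟨m, hm, hmT⟩ := CfsgLib.Transfer.exists_conj_le hT₀p hT₀i hA1N ((S.2.to_le h.le).map _)
  have hn : m⁻¹ * k⁻¹ ∈ normalizer (A : Set G) := mem_normalizer_of_conj h hu hT₀p hAT₀ fun a ha => by
    simpa [mul_assoc] using hmT _ (mem_map_of_mem (MulAut.conj k⁻¹).toMonoidHom ha)
  have h1 := (mem_normalizer_iff.1 hn _).1 hky
  rw [show m⁻¹ * k⁻¹ * (k * y * k⁻¹) * (m⁻¹ * k⁻¹)⁻¹ = m⁻¹ * y * m⁻¹⁻¹ by group] at h1
  exact hy ((t.fix h hu (inv_mem hm) t.mem).2 h1)

end CfsgLib.TwoFusion.M24Type
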