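import Cfsg.Agent.Lib.TwoGroups.M24SylowQuotient

/-!
Owner: helper23. Coordinates on a Sylow 2-subgroup of `M24` modulo its centre, for S3169.

A code `64 * i + j` stands for `r i * e j`, `r` the eight representatives and `e` the elements of the
elementary subgroup of order 64.

* `cmul`, `cinv`, `ccom`: the operations on the codes.
* `exists_coords`: a bijection of the codes with the group compatible with them.
-/

set_option autoImplicit false
set_option linter.style.haveILetI false
set_option linter.unusedSectionVars false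

namespace CfsgLib.TwoFusion.M24Type

open Cfsg Subgroup
open CfsgLib.Sporadic CfsgLib.LocalEven.M24Sylow CfsgLib.TwoGroups.M24Quotient

/-- `e (2 ^ b) * r k = r k * e (rt k b)`. -/
def rtTab : List (List ℕ) :=
  [[1, 2, 4, 8, 16, 32], [18, 2, 23, 10, 3, 32], [18, 52, 8, 35, 3, 9], [36, 52, 47, 4, 53, 24],
   [55, 52, 45, 23, 38, 9], [1, 52, 10, 48, 16, 24], [55, 2, 35, 47, 38, 49], [36, 2, 48, 45, 53, 49]]

/-- `r i * r k = r p * e q`, coded as `64 * p + q`. -/
def ptTab : List (List ℕ) :=
  [[0, 64, 128, 192, 256, 320, 384, 448], [64, 2, 256, 320, 180, 244, 448, 386],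
   [128, 382, 384, 4, 93, 473, 196, 314], [192, 266, 8, 427, 471, 116, 163, 361],
   [256, 202, 448, 68, 31, 411, 324, 142], [320, 190, 72, 491, 405, 54, 291, 221],
   [384, 487, 196, 132, 355, 291, 0, 103], [448, 421, 324, 260, 215, 151, 64, 37]]

/-- `e j * r k = r k * e (act k j)`. -/
noncomputable def act (k j : ℕ) : ℕ :=
  Nat.rec 0 (fun b acc => Nat.xor acc (cond (Nat.testBit j b) ((rtTab.getD k []).getD b 0) 0)) 6

/-- The product of two codes. -/
noncomputable def cmul (x y : ℕ) : ℕ :=
  let p := (ptTab.getD (Nat.div x 64) []).getD (Nat.div y 64) 0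
  Nat.add (Nat.mul 64 (Nat.div p 64))
    (Nat.xor (Nat.xor (Nat.mod p 64) (act (Nat.div y 64) (Nat.mod x 64))) (Nat.mod y 64))

/-- The inverse of each representative. -/
def itTab : List ℕ := [0, 66, 196, 136, 287, 374, 384, 485]

/-- The inverse of a code. -/
noncomputable def cinv (x : ℕ) : ℕ := cmul (Nat.mod x 64) (itTab.getD (Nat.div x 64) 0)

/-- The commutator of two codes. -/
noncomputable def ccom (x y : ℕ) : ℕ := cmul (cmul (cmul x y) (cinv x)) (cinv y)

/-- The word of a code. -/
noncomputable def cw (x : ℕ) : List ℕ := rw8.getD (Nat.div x 64) [] ++ ew (Nat.mod x 64)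

theorem rt_ok : forallLt 8 (fun k => forallLt 6 (fun b =>
    Nat.blt ((rtTab.getD k []).getD b 0) 64 &&
      eqz (bw.getD b [] ++ rw8.getD k []) (rw8.getD k [] ++ ew ((rtTab.getD k []).getD b 0)))) = true := by
  decide +kernel

theorem pt_ok : forallLt 8 (fun i => forallLt 8 (fun k =>
    let p := (ptTab.getD i []).getD k 0
    Nat.blt p 512 && eqz (rw8.getD i [] ++ rw8.getD k []) (cw p))) = true := by
  decide +kernel

theorem cinv_ok : forallLt 512 (fun x => Nat.blt (cinv x) 512 && Nat.beq (cmul x (cinv x)) 0) = true := by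
  decide +kernel

theorem act_lt : forallLt 8 (fun k => forallLt 64 (fun j => Nat.blt (act k j) 64)) = true := by decide +kernel

variable {P : Type*} [Group P] [Finite P]

/-- The coordinates. -/
theorem exists_coords (ψ : syl ≃* P) :
    ∃ c : ℕ → P ⧸ center P, Nat.card (P ⧸ center P) = 512 ∧
      (∀ x, x < 512 → ∀ y, y < 512 → cmul x y < 512 ∧ c x * c y = c (cmul x y)) ∧
      (∀ g, ∃ x, x < 512 ∧ c x = g) ∧ (∀ x, x < 512 → ∀ y, y < 512 → c x = c y → x = y) ∧
      c 0 = 1 := by
  classical
  let π : syl →* P ⧸ center P := (QuotientGroup.mk' (center P)).comp ψ.toMonoidHom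
  have hπsurj : Function.Surjective π := (QuotientGroup.mk'_surjective _).comp ψ.surjective
  have hπker : ∀ g, g ∈ center syl → π g = 1 := fun g hg => by
    show QuotientGroup.mk' (center P) (ψ g) = 1
    rw [QuotientGroup.mk'_apply, QuotientGroup.eq_one_iff, mem_center_iff]
    intro y
    obtain ⟨x, rfl⟩ := ψ.surjective y
    rw [← map_mul, ← map_mul, mem_center_iff.1 hg x]
  let v : List ℕ → P ⧸ center P := fun w => π (el w)
  have hvapp : ∀ a b, v (a ++ b) = v a * v b := fun a b => by simp [v, el_append]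
  have hvz : ∀ a b, eqz a b = true → v a = v b := by
    intro a b
    simp only [eqz, Bool.or_eq_true, Nat.beq_eq]
    rintro (h | h) <;> simp only [v, el_eq_of_cv h, el_append, map_mul]
    rw [hπker _ (mem_center_syl_iff.2 (Or.inr rfl)), one_mul]
  have hv0 : v [] = 1 := by simp [v, el]
  have hbw : ∀ k, k < 6 → ∀ j, j < 64 → v (bw.getD k []) * v (ew j) = v (ew (j ^^^ 2 ^ k)) := by
    intro k hk j hj
    rw [← hvapp]
    exact hvz _ _ (forallLt_elim (forallLt_elim ew_mul hk) hj)
  have hxor : ∀ j, j < 64 → ∀ l, l < 64 → v (ew j) * v (ew l) = v (ew (j ^^^ l)) := by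
    intro j hj l hl
    have key : ∀ L : List ℕ, (∀ k ∈ L, k < 6) →
        v (L.flatMap fun k => bw.getD k []) * v (ew l) = v (ew (L.foldr (fun k r => 2 ^ k ^^^ r) l)) ∧
          L.foldr (fun k r => 2 ^ k ^^^ r) l < 64 := by
      intro L
      induction L with
      | nil => intro _; exact ⟨by simp [hv0], hl⟩
      | cons k L ih =>
        intro hL
        obtain ⟨ih1, ih2⟩ := ih fun m hm => hL m (List.mem_cons_of_mem _ hm)
        have hk := hL k (List.mem_cons_self ..)
        refine ⟨?_, ?_⟩
        · rw [List.flatMap_cons, hvapp, mul_assoc, ih1, hbw k hk _ ih2, List.foldr_cons, Nat.xor_comm]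
        · rw [List.foldr_cons]
          exact Nat.xor_lt_two_pow (n := 6) (Nat.pow_lt_pow_right one_lt_two hk) ih2
    have h := (key ((List.range 6).filter fun k => Nat.testBit j k)
      fun k hk => List.mem_range.1 (List.mem_filter.1 hk).1).1
    rw [show (((List.range 6).filter fun k => Nat.testBit j k).foldr (fun k r => 2 ^ k ^^^ r) l) = j ^^^ l by
      have hf : ∀ (L : List ℕ) (r : ℕ), L.foldr (fun k r => 2 ^ k ^^^ r) r =
          L.foldr (fun k r => 2 ^ k ^^^ r) 0 ^^^ r := by
        intro L r
        induction L with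
        | nil => simp
        | cons k L ih => rw [List.foldr_cons, List.foldr_cons, ih, Nat.xor_assoc]
      have h0 : ∀ i : Fin 64, (((List.range 6).filter fun k => Nat.testBit i k).foldr
          (fun k r => 2 ^ k ^^^ r) (0 : ℕ)) = (i : ℕ) := by decide
      rw [hf, show ((List.range 6).filter fun k => Nat.testBit j k).foldr (fun k r => 2 ^ k ^^^ r) 0 = j from h0 ⟨j, hj⟩]] at h
    exact h
  have hew0 : v (ew 0) = 1 := by simp [ew, hv0]
  have hrt : ∀ k, k < 8 → ∀ j, j < 64 → v (ew j) * v (rw8.getD k []) = v (rw8.getD k []) * v (ew (act k j)) := by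
    intro k hk
    have key : ∀ n, n ≤ 6 → ∀ j, j < 2 ^ n →
        v (ew j) * v (rw8.getD k []) = v (rw8.getD k []) * v (ew (act k j)) := by
      intro n
      induction n with
      | zero =>
        intro _ j hj
        obtain rfl : j = 0 := by omega
        have ha : act k 0 = 0 := by simp [act]; rfl
        rw [ha, hew0, one_mul, mul_one]
      | succ n ih =>
        intro hn j hj
        by_cases hjn : j < 2 ^ n
        · exact ih (by omega) j hjn
        have h64 : 2 ^ (n + 1) ≤ 64 := le_trans (Nat.pow_le_pow_right two_pos hn) (by norm_num)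
        have hsplit : j = 2 ^ n ^^^ (j - 2 ^ n) ∧
            act k j = (rtTab.getD k []).getD n 0 ^^^ act k (j - 2 ^ n) := by
          have hall : forallLt 8 (fun k => forallLt 6 (fun n => forallLt 64 (fun j =>
              Nat.blt j (2 ^ n) || Nat.ble (2 ^ (n + 1)) j ||
                (Nat.beq j (Nat.xor (2 ^ n) (j - 2 ^ n)) &&
                  Nat.beq (act k j) (Nat.xor ((rtTab.getD k []).getD n 0) (act k (j - 2 ^ n))))))) = true := by
            decide +kernel
          have h1 := forallLt_elim (forallLt_elim (forallLt_elim hall hk) (show n < 6 by omega))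
            (show j < 64 by omega)
          simp only [Bool.or_eq_true, Bool.and_eq_true, Nat.blt_eq, Nat.ble_eq, Nat.beq_eq] at h1
          rcases h1 with (h1 | h1) | h1
          · exact absurd h1 hjn
          · omega
          · exact h1
        have hlow : j - 2 ^ n < 2 ^ n := by rw [pow_succ] at hj; omega
        have h1 := forallLt_elim (forallLt_elim rt_ok hk) (show n < 6 by omega)
        simp only [Bool.and_eq_true, Nat.blt_eq] at h1
        have h2 := hvz _ _ h1.2
        rw [hvapp, hvapp] at h2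
        have h3 := ih (by omega) _ hlow
        have hlt := forallLt_elim (forallLt_elim act_lt hk) (show j - 2 ^ n < 64 by omega)
        rw [Nat.blt_eq] at hlt
        have e1 : v (ew j) = v (bw.getD n []) * v (ew (j - 2 ^ n)) := by
          rw [hbw n (by omega) _ (by omega), Nat.xor_comm, ← hsplit.1]
        rw [e1, hsplit.2, ← hxor _ h1.1 _ hlt, mul_assoc, h3, ← mul_assoc, h2, mul_assoc]
    exact fun j hj => key 6 le_rfl j hj
  let c : ℕ → P ⧸ center P := fun x => v (cw x)
  have hc : ∀ x, c x = v (rw8.getD (x / 64) []) * v (ew (x % 64)) := fun x => hvapp _ _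
  have hmul : ∀ x, x < 512 → ∀ y, y < 512 → cmul x y < 512 ∧ c x * c y = c (cmul x y) := by
    intro x hx y hy
    have hi : x / 64 < 8 := by omega
    have hk : y / 64 < 8 := by omega
    have hp := forallLt_elim (forallLt_elim pt_ok hi) hk
    simp only [Bool.and_eq_true, Nat.blt_eq] at hp
    obtain ⟨hp512, hpe⟩ := hp
    set p := (ptTab.getD (x / 64) []).getD (y / 64) 0 with hpdef
    have hj : x % 64 < 64 := Nat.mod_lt _ (by norm_num)
    have hl : y % 64 < 64 := Nat.mod_lt _ (by norm_num)
    have ha := forallLt_elim (forallLt_elim act_lt hk) hj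
    rw [Nat.blt_eq] at ha
    have hq : p % 64 < 64 := Nat.mod_lt _ (by norm_num)
    set q := (p % 64 ^^^ act (y / 64) (x % 64)) ^^^ y % 64 with hqdef
    have hq64 : q < 64 := Nat.xor_lt_two_pow (n := 6) (Nat.xor_lt_two_pow (n := 6) hq ha) hl
    have hm : cmul x y = 64 * (p / 64) + q := rfl
    refine ⟨by rw [hm]; omega, ?_⟩
    rw [hc, hc, hc, hm, show (64 * (p / 64) + q) / 64 = p / 64 by omega,
      show (64 * (p / 64) + q) % 64 = q by omega, hqdef,
      ← hxor _ (Nat.xor_lt_two_pow (n := 6) hq ha) _ hl, ← hxor _ hq _ ha]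
    have e := hvz _ _ hpe
    rw [hvapp, show cw p = rw8.getD (p / 64) [] ++ ew (p % 64) from rfl, hvapp] at e
    rw [mul_assoc (v (rw8.getD (x / 64) [])), ← mul_assoc (v (ew (x % 64))), hrt _ hk _ hj, ← mul_assoc,
      ← mul_assoc, e]
    simp only [mul_assoc]
  have hcov : ∀ g, ∃ x, x < 512 ∧ c x = g := by
    intro g
    obtain ⟨t, rfl⟩ := hπsurj g
    have ht : t ∈ Subgroup.closure (Set.range gen) := closure_gen.ge (mem_top t)
    rw [← Subgroup.mem_toSubmonoid, Subgroup.closure_toSubmonoid_of_finite] at ht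
    induction ht using Submonoid.closure_induction_left with
    | one => exact ⟨0, by norm_num, by rw [hc]; simp [rw8, hv0, hew0]⟩
    | mul_left a ha y _ ih =>
      obtain ⟨g, rfl⟩ := ha
      obtain ⟨x, hx, hxy⟩ := ih
      by_cases hg : g < 4
      · have h := forallLt_elim (forallLt_elim coTab_ok hg) (show x / 64 < 8 by omega)
        simp only [Bool.and_eq_true, Nat.blt_eq] at h
        obtain ⟨⟨h8, h64⟩, he⟩ := h
        set e := (coTab.getD g []).getD (x / 64) (0, 0)
        have hj : x % 64 < 64 := Nat.mod_lt _ (by norm_num)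
        have hlt : e.2 ^^^ x % 64 < 64 := Nat.xor_lt_two_pow (n := 6) h64 hj
        refine ⟨64 * e.1 + (e.2 ^^^ x % 64), by omega, ?_⟩
        have he' := hvz _ _ he
        rw [hvapp, hvapp] at he'
        have hgv : v [g] = π (gen g) := by simp [v, el]
        rw [hc, show (64 * e.1 + (e.2 ^^^ x % 64)) / 64 = e.1 by omega,
          show (64 * e.1 + (e.2 ^^^ x % 64)) % 64 = e.2 ^^^ x % 64 by omega, ← hxor _ h64 _ hj,
          ← mul_assoc, ← he', mul_assoc, ← hc, hxy, map_mul, hgv]
      · refine ⟨x, hx, ?_⟩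
        rw [gen_ge (by omega), one_mul, hxy]
  have hS : Nat.card (P ⧸ center P) = 512 := by
    have hcz : Nat.card (center P) = 2 := by
      rw [← card_center_syl]
      exact (Nat.card_congr (Subgroup.centerCongr ψ).toEquiv).symm
    have h := Subgroup.card_eq_card_quotient_mul_card_subgroup (center P)
    rw [← Nat.card_congr ψ.toEquiv, card_syl, hcz] at h
    omega
  refine ⟨c, hS, hmul, hcov, fun x hx y hy e => ?_, by rw [hc]; simp [rw8, hv0, hew0]⟩
  have hs : Function.Surjective fun x : Fin 512 => c x := fun g => by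
    obtain ⟨x, hx, hxg⟩ := hcov g
    exact ⟨⟨x, hx⟩, hxg⟩
  have hb := (Nat.bijective_iff_surjective_and_card fun x : Fin 512 => c x).2 ⟨hs, by rw [Nat.card_fin, hS]⟩
  exact congrArg Fin.val (hb.1 (a₁ := ⟨x, hx⟩) (a₂ := ⟨y, hy⟩) e)

end CfsgLib.TwoFusion.M24Type
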