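import Cfsg.Agent.Lib.TwoFusion.M24Type.Closed
import Cfsg.Agent.Lib.TwoFusion.StructGold.Pair
import Cfsg.Agent.Lib.Bender.GroupLemmas
import Mathlib.GroupTheory.SchurZassenhaus

/-!
Owner: helper23. The normality of the abelian subgroup of order 64 (S3169) from the inputs
`GoldschmidtInput` and `WalterList`.

* `Auto`: automorphisms of odd order of the elementary group of order 64 centralizing the four group.
* `normal_of_shape`: S3169 on the shape.
* `sylow_mod_center_normal`, `extraspecial_normal`: the statements S3169 and S3170.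
-/

set_option autoImplicit false
set_option linter.style.haveILetI false
set_option linter.unusedSectionVars false

namespace CfsgLib.TwoFusion.M24Type

open Subgroup Cfsg
open scoped commutatorElement Pointwise

universe u

/-! ### Automorphisms -/

section Auto

variable {V : Type*} [Group V] [Finite V] (hV : ∀ a b : V, a * b = b * a) (h2 : ∀ a : V, a * a = 1)

/-- `a ↦ ψ a * a⁻¹`. -/
def mov (ψ : MulAut V) : V →* V :=
  MonoidHom.mk' (fun a => ψ a * a⁻¹) fun a b => by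
    show ψ (a * b) * (a * b)⁻¹ = ψ a * a⁻¹ * (ψ b * b⁻¹)
    rw [map_mul, mul_inv_rev, mul_assoc (ψ a) a⁻¹, hV a⁻¹, mul_assoc (ψ b), mul_assoc (ψ a)]

theorem mov_apply (ψ : MulAut V) (a : V) : mov hV ψ a = ψ a * a⁻¹ := rfl

theorem mem_ker_mov {ψ : MulAut V} {a : V} : a ∈ (mov hV ψ).ker ↔ ψ a = a := by
  rw [MonoidHom.mem_ker, mov_apply, mul_inv_eq_one]

theorem mov_mem_range_iff {x ψ : MulAut V} (hc : Commute x ψ) {i : V} (hi : i ∈ (mov hV ψ).range) :
    x i ∈ (mov hV ψ).range := by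
  obtain ⟨a, rfl⟩ := hi
  refine ⟨x a, ?_⟩
  rw [mov_apply, mov_apply, map_mul, map_inv]
  exact congrArg (· * (x a)⁻¹) (DFunLike.congr_fun hc.eq a).symm

theorem ker_of_commute {x ψ : MulAut V} (hc : Commute x ψ) {c : V} (h : ψ c = c) : ψ (x c) = x c := by
  have := DFunLike.congr_fun hc.eq c
  simp only [MulAut.mul_apply] at this
  rw [← this, h]

include h2

theorem inv_eq (a : V) : a⁻¹ = a := inv_eq_of_mul_eq_one_right (h2 a)

theorem fixed_of_odd {σ : MulAut V} (hσ : Odd (orderOf σ)) {c : V} (hd : σ (σ c * c⁻¹) = σ c * c⁻¹) : σ c = c := by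
  have hσσ : (σ * σ) c = c := by
    have e : σ c = (σ c * c⁻¹) * c := (inv_mul_cancel_right _ _).symm
    rw [MulAut.mul_apply]
    conv_lhs => arg 2; rw [e]
    rw [map_mul, hd]
    conv_lhs => arg 2; rw [e]
    rw [← mul_assoc, h2, one_mul]
  obtain ⟨j, hj⟩ := hσ
  have hpow : ∀ k : ℕ, ((σ * σ) ^ k) c = c := by
    intro k
    induction k with
    | zero => rfl
    | succ k ih => rw [pow_succ, MulAut.mul_apply, hσσ, ih]
  have e := pow_orderOf_eq_one σ
  rw [hj, pow_succ', pow_mul, pow_two] at e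
  have := DFunLike.congr_fun e c
  rwa [MulAut.mul_apply, hpow, MulAut.one_apply] at this

omit h2

/-- `φ` centralizes the range and the kernel modulo the range of `mov ψ`. -/
def ARel (φ ψ : MulAut V) : Prop :=
  (∀ i ∈ (mov hV ψ).range, φ i = i) ∧ ∀ c, ψ c = c → φ c * c⁻¹ ∈ (mov hV ψ).range

include h2

theorem eq_one_of_trivial {τ ψ : MulAut V} (hτ : Odd (orderOf τ)) (hc : Commute τ ψ)
    (hI : ∀ i ∈ (mov hV ψ).range, τ i = i) (hC : ∀ c, ψ c = c → τ c = c) : τ = 1 := by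
  refine MulEquiv.ext fun a => ?_
  refine fixed_of_odd h2 hτ (hC _ ?_)
  have e : τ (ψ a * a⁻¹) = ψ a * a⁻¹ := hI _ ⟨a, rfl⟩
  have e' : τ (ψ a) = ψ (τ a) := DFunLike.congr_fun hc.eq a
  rw [map_mul, map_inv, e'] at e
  have e'' : ψ (τ a) = ψ a * a⁻¹ * τ a := by rw [← e, inv_mul_cancel_right]
  rw [map_mul, map_inv, e'', hV (τ a) a⁻¹, mul_inv_eq_iff_eq_mul, mul_assoc, hV _ (ψ a), hV a⁻¹ (τ a)]

theorem commute_of_rel {X : Subgroup (MulAut V)} (hX : Odd (Nat.card X)) {φ ψ x : MulAut V}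
    (hφX : φ ∈ normalizer (X : Set (MulAut V))) (hφ : φ * φ = 1) (hφψ : Commute φ ψ) (hrel : ARel hV φ ψ)
    (hx : x ∈ X) (hxψ : Commute x ψ) : Commute x φ := by
  set τ := x * φ * x⁻¹ * φ⁻¹ with hτ
  have hτX : τ ∈ X := by
    rw [hτ, mul_assoc, mul_assoc, ← mul_assoc φ]
    exact X.mul_mem hx ((mem_normalizer_iff.1 hφX _).1 (X.inv_mem hx))
  have hodd : Odd (orderOf τ) := hX.of_dvd_nat (Subgroup.orderOf_dvd_natCard _ hτX)
  have hτψ : Commute τ ψ := ((hxψ.mul_left hφψ).mul_left hxψ.inv_left).mul_left hφψ.inv_left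
  have hφi : φ⁻¹ = φ := inv_eq_of_mul_eq_one_right hφ
  have hxi : Commute x⁻¹ ψ := hxψ.inv_left
  have happ : ∀ a, τ a = x (φ (x⁻¹ (φ a))) := fun a => by rw [hτ, hφi]; simp only [MulAut.mul_apply]
  have hxx : ∀ a, x (x⁻¹ a) = a := fun a => by rw [← MulAut.mul_apply, mul_inv_cancel, MulAut.one_apply]
  have hI : ∀ i ∈ (mov hV ψ).range, τ i = i := fun i hi => by
    rw [happ, hrel.1 i hi, hrel.1 _ (mov_mem_range_iff hV hxi hi), hxx]
  have h1 : τ = 1 := eq_one_of_trivial hV h2 hodd hτψ hI fun c hc => by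
    refine fixed_of_odd h2 hodd (hI _ ?_)
    have hc' : ψ (x⁻¹ c) = x⁻¹ c := ker_of_commute hxi hc
    have e1 : φ c = (φ c * c⁻¹) * c := (inv_mul_cancel_right _ _).symm
    have e2 : φ (x⁻¹ c) = (φ (x⁻¹ c) * (x⁻¹ c)⁻¹) * x⁻¹ c := (inv_mul_cancel_right _ _).symm
    set i := φ c * c⁻¹ with hi
    set j := φ (x⁻¹ c) * (x⁻¹ c)⁻¹ with hj
    have hiI : i ∈ (mov hV ψ).range := hrel.2 c hc
    have hjI : j ∈ (mov hV ψ).range := hrel.2 _ hc'
    have e : τ c * c⁻¹ = i * x j := by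
      rw [happ, e1, map_mul x⁻¹, map_mul φ, hrel.1 _ (mov_mem_range_iff hV hxi hiI), map_mul x, hxx, e2,
        map_mul x, hxx, ← mul_assoc, mul_inv_cancel_right]
    rw [e]
    exact mul_mem hiI (mov_mem_range_iff hV hxψ hjI)
  rw [hτ] at h1
  exact mul_inv_eq_iff_eq_mul.1 (mul_inv_eq_one.1 h1)

theorem eq_one_of_centralizes {x ε φ : MulAut V} (hx : Odd (orderOf x)) (hxε : Commute x ε) (hxφ : Commute x φ)
    (hεφ : Commute φ ε) (hε : ε * ε = 1) (hrel : ARel hV φ ε) (hIε : Nat.card (mov hV ε).range = 4)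
    (hCε : Nat.card (mov hV ε).ker = 16) (hIφ : Nat.card (mov hV φ).range = 4)
    (hmeet : ∃ a b, mov hV ε a = mov hV φ b ∧ mov hV ε a ≠ 1) (hout : ∃ a, ∀ b, mov hV φ a ≠ mov hV ε b) :
    x = 1 := by
  classical
  set I := (mov hV ε).range with hI
  set J := (mov hV φ).range with hJ
  obtain ⟨a, b, hab, hne⟩ := hmeet
  obtain ⟨a', ha'⟩ := hout
  set w := mov hV ε a with hw
  have hwI : w ∈ I := ⟨a, rfl⟩
  have hwJ : w ∈ J := ⟨b, hab.symm⟩
  -- the common element is fixed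
  have hIJ : Nat.card ↥(I ⊓ J : Subgroup V) ≤ 2 := by
    have hdvd : Nat.card ↥(I ⊓ J : Subgroup V) ∣ 2 ^ 2 := by
      rw [show (2 : ℕ) ^ 2 = 4 from rfl, ← hIε]; exact card_dvd_of_le inf_le_left
    obtain ⟨k, hk, hke⟩ := (Nat.dvd_prime_pow Nat.prime_two).1 hdvd
    have hlt : Nat.card ↥(I ⊓ J : Subgroup V) ≠ 4 := fun e => by
      have h1 : I ⊓ J = J := eq_of_le_of_card_ge inf_le_right (by rw [e, hIφ])
      obtain ⟨c, hc⟩ : mov hV φ a' ∈ I := inf_le_left (a := I) (b := J) (h1.symm ▸ ⟨a', rfl⟩)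
      exact ha' c hc.symm
    interval_cases k <;> simp_all
  have hwx : x w = w := by
    have h1 : x w ∈ I ⊓ J := ⟨mov_mem_range_iff hV hxε hwI, mov_mem_range_iff hV hxφ hwJ⟩
    by_contra hne'
    have hxw : x w ≠ 1 := fun e => hne ((map_eq_one_iff x x.injective).1 e)
    have hsub : ({1, w, x w} : Finset V) ⊆ (Set.toFinite ((I ⊓ J : Subgroup V) : Set V)).toFinset := by
      intro z hz
      simp only [Finset.mem_insert, Finset.mem_singleton] at hz
      rw [Set.Finite.mem_toFinset]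
      rcases hz with rfl | rfl | rfl
      · exact one_mem _
      · exact ⟨hwI, hwJ⟩
      · exact h1
    have := Finset.card_le_card hsub
    rw [Finset.card_insert_of_notMem (by simp [Ne.symm hne, Ne.symm hxw]),
      Finset.card_pair (Ne.symm hne'), ← Nat.card_eq_card_finite_toFinset] at this
    exact absurd (this.trans hIJ) (by norm_num)
  -- a subgroup of order 4 with a fixed element is fixed
  have hfour : ∀ (ψ : MulAut V), Commute x ψ → Nat.card (mov hV ψ).range = 4 → w ∈ (mov hV ψ).range →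
      ∀ i ∈ (mov hV ψ).range, x i = i := by
    intro ψ hψ h4 hwψ i hi
    by_cases hiw : i = 1 ∨ i = w
    · rcases hiw with rfl | rfl
      · exact map_one x
      · exact hwx
    rw [not_or] at hiw
    set T := (Set.toFinite ((mov hV ψ).range : Set V)).toFinset with hT
    have hTc : T.card = 4 := by rw [hT, ← Nat.card_eq_card_finite_toFinset]; exact h4
    have hiw' : i * w ≠ 1 := fun e => hiw.2 (by rw [eq_inv_of_mul_eq_one_left e, inv_eq h2])
    have hsub : ({1, w, i, i * w} : Finset V) = T := by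
      refine Finset.eq_of_subset_of_card_le (fun z hz => ?_) ?_
      · simp only [Finset.mem_insert, Finset.mem_singleton] at hz
        rw [hT, Set.Finite.mem_toFinset]
        rcases hz with rfl | rfl | rfl | rfl
        · exact one_mem _
        · exact hwψ
        · exact hi
        · exact mul_mem hi hwψ
      · rw [hTc, Finset.card_insert_of_notMem, Finset.card_insert_of_notMem, Finset.card_pair]
        · simp [hne]
        · simp [Ne.symm hiw.2, hiw.1]
        · simp [Ne.symm hne, Ne.symm hiw.1, Ne.symm hiw']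
    have hxi : x i ∈ T := by rw [hT, Set.Finite.mem_toFinset]; exact mov_mem_range_iff hV hψ hi
    rw [← hsub] at hxi
    simp only [Finset.mem_insert, Finset.mem_singleton] at hxi
    rcases hxi with e | e | e | e
    · exact absurd ((map_eq_one_iff x x.injective).1 e) hiw.1
    · exact absurd (x.injective (e.trans hwx.symm)) hiw.2
    · exact e
    · refine fixed_of_odd h2 hx ?_
      rw [e, hV i w, mul_inv_cancel_right, hwx]
  have hfI := hfour ε hxε hIε hwI
  have hfJ := hfour φ hxφ hIφ hwJ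
  refine eq_one_of_trivial hV h2 hx hxε hfI fun c hc => ?_
  -- the fixed part of the kernel has index at most two
  set v := mov hV φ a' with hv
  have hvI : v ∉ I := fun ⟨z, hz⟩ => ha' z hz.symm
  have hvC : ε v = v := by
    rw [hv, mov_apply, map_mul, map_inv]
    have e : ε (φ a') = φ (ε a') := DFunLike.congr_fun hεφ.symm.eq a'
    have e2 : φ (ε a' * a'⁻¹) = ε a' * a'⁻¹ := hrel.1 _ ⟨a', rfl⟩
    rw [map_mul, map_inv] at e2
    have e3 : φ (ε a') = ε a' * a'⁻¹ * φ a' := by rw [← e2, inv_mul_cancel_right]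
    rw [e, e3, hV (φ a') a'⁻¹, mul_inv_eq_iff_eq_mul, mul_assoc, hV _ (ε a'), hV a'⁻¹ (φ a')]
  let P : Subgroup V :=
    { carrier := {z | x z = z ∧ ε z = z}
      one_mem' := ⟨map_one x, map_one ε⟩
      mul_mem' := fun {z z'} hz hz' => ⟨by rw [map_mul, hz.1, hz'.1], by rw [map_mul, hz.2, hz'.2]⟩
      inv_mem' := fun {z} hz => ⟨by rw [map_inv, hz.1], by rw [map_inv, hz.2]⟩ }
  have hIε' : ∀ i ∈ I, ε i = i := by
    rintro _ ⟨z, rfl⟩
    have e : ε (ε z) = z := DFunLike.congr_fun hε z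
    rw [mov_apply, map_mul, map_inv, e, ← inv_eq h2 (ε z * z⁻¹), mul_inv_rev, inv_inv]
  have hPle : P ≤ (mov hV ε).ker := fun z hz => (mem_ker_mov hV).2 hz.2
  have hIP : I ≤ P := fun i hi => ⟨hfI i hi, hIε' i hi⟩
  have hvP : v ∈ P := ⟨hfJ v ⟨a', rfl⟩, hvC⟩
  have hIPlt : I ≠ P := fun e => hvI (e ▸ hvP)
  have hP8 : 8 ≤ Nat.card P := by
    have h1 : Nat.card I < Nat.card P := lt_of_le_of_ne (card_le_of_le hIP) fun e =>
      hIPlt (eq_of_le_of_card_ge hIP e.ge)
    have hdvd : Nat.card P ∣ 2 ^ 4 := by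
      rw [show (2 : ℕ) ^ 4 = 16 from rfl, ← hCε]; exact card_dvd_of_le hPle
    obtain ⟨k, hk, hke⟩ := (Nat.dvd_prime_pow Nat.prime_two).1 hdvd
    rw [hIε] at h1
    interval_cases k <;> omega
  by_cases hcP : c ∈ P
  · exact hcP.1
  have hcK : c ∈ (mov hV ε).ker := (mem_ker_mov hV).2 hc
  have hsub : ((mov hV ε).ker : Set V) ⊆ (P : Set V) ∪ (fun z => c * z) '' (P : Set V) := by
    have hdis : Disjoint (P : Set V) ((fun z => c * z) '' (P : Set V)) := Set.disjoint_left.2 fun z hz hz' => by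
      obtain ⟨y, hy, rfl⟩ := hz'
      exact hcP ((P.mul_mem_cancel_right hy).1 hz)
    have hle : (P : Set V) ∪ (fun z => c * z) '' (P : Set V) ⊆ ((mov hV ε).ker : Set V) := by
      rintro z (hz | ⟨y, hy, rfl⟩)
      · exact hPle hz
      · exact mul_mem hcK (hPle hy)
    refine (Set.eq_of_subset_of_ncard_le hle ?_ (Set.toFinite _)).ge
    rw [Set.ncard_union_eq hdis, Set.ncard_image_of_injective _ (mul_right_injective c),
      ← Nat.card_coe_set_eq, ← Nat.card_coe_set_eq]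
    change Nat.card (mov hV ε).ker ≤ Nat.card P + Nat.card P
    omega
  have hxc : x c ∈ (mov hV ε).ker := (mem_ker_mov hV).2 (ker_of_commute hxε hc)
  rcases hsub hxc with hz | ⟨y, hy, hye⟩
  · have e : x (x c) = x c := hz.1
    exact x.injective e
  · refine fixed_of_odd h2 hx ?_
    dsimp only at hye
    rw [← hye, hV c y, mul_inv_cancel_right, hy.1]

end Auto

/-! ### Normality -/

variable {G : Type u} [Group G] [Finite G] {S : Sylow 2 G} {A : Subgroup G}

open CfsgLib.TwoFusion.StructGold in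
/-- **S3169 on the shape**, from the inputs. -/
theorem normal_of_shape (h : Shape (S : Subgroup G) A) (hu : Uniq S A)
    (hG : CfsgLib.SThreeFree.GoldschmidtInput.{u}) (hW : CfsgLib.Walter.WalterList.{u})
    (hO : pPrimeCore 2 G = ⊥) : A.Normal := by
  classical
  haveI := Fact.mk Nat.prime_two
  have hcl : Closed S A := ⟨h.isMulCommutative, isStronglyClosed h hu⟩
  have hgen := hcl.normalClosure_subgroupOf
  set K := normalClosure (A : Set G) with hK
  haveI : K.Normal := normalClosure_normal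
  have hAK : A ≤ K := subset_normalClosure
  have hOK : pPrimeCore 2 ↥K = ⊥ := (map_eq_bot_iff_of_injective _ K.subtype_injective).1
    (le_bot_iff.1 ((CfsgLib.Core.map_subtype_pPrimeCore_le (p := 2) K).trans hO.le))
  obtain ⟨SK, hSK⟩ := exists_sylow_subgroupOf S K
  have hclK := hcl.subgroup SK hSK
  obtain ⟨hRA, hRc⟩ := hclK.pCore_le hG hW hgen hOK
  set R := pCore 2 ↥K with hR
  set π := QuotientGroup.mk' R with hπdef
  have hπ : Function.Surjective π := QuotientGroup.mk'_surjective R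
  have hclQ := hclK.map π hπ ((QuotientGroup.ker_mk' R).le.trans (CfsgLib.Core.pCore_le_sylow SK))
  have hgenQ := hclK.normalClosure_map π hπ hgen
  have hOQ := pPrimeCore_quotient_central hRc (CfsgLib.Core.isPGroup_pCore 2 ↥K) hOK
  obtain ⟨D⟩ := hclQ.exists_decomp hG hW hgenQ hOQ (CfsgLib.Core.pCore_quotient_pCore 2 ↥K)
  set Q := SK.mapSurjective hπ with hQdef
  set B := (A.subgroupOf K).map π with hBdef
  -- the Sylow subgroup of the quotient centralises the image of `A`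
  have hcQ : ∀ t ∈ (Q : Subgroup (↥K ⧸ R)), ∀ a ∈ B, Commute t a := by
    intro t ht a ha
    have hle : (⨆ i, B ⊓ D.L i) ≤ centralizer ({t} : Set (↥K ⧸ R)) := iSup_le fun i w hw => by
      haveI := D.normal i
      refine mem_centralizer_singleton_iff.2 ?_
      obtain ⟨hwQ, hwL, hww⟩ := (hclQ.inf_eq (D.good i) (D.meets i)).1 hw
      obtain ⟨l, hl, c, hc, rfl⟩ : t ∈ ((D.L i : Set (↥K ⧸ R)) * (centralizer (D.L i : Set (↥K ⧸ R)) : Set (↥K ⧸ R))) := by
        rw [← normal_mul, D.sup_centralizer i]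
        exact mem_top t
      have hlc : Commute l c := mem_centralizer_iff.1 hc l hl
      obtain ⟨Qi, hQi⟩ := exists_sylow_subgroupOf Q (D.L i)
      set lL : D.L i := ⟨l, hl⟩ with hlL
      obtain ⟨k, hk⟩ := Q.2 ⟨l * c, ht⟩
      have hlk : l ^ (2 ^ k) = 1 := by
        refine D.center_factor i (pow_mem hl _) ?_
        have e : (l * c) ^ (2 ^ k) = 1 := congrArg Subtype.val hk
        rw [hlc.mul_pow] at e
        rw [eq_inv_of_mul_eq_one_left e]
        exact inv_mem (pow_mem hc _)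
      have hlQ : lL ∈ (Qi : Subgroup (D.L i)) := by
        have hnQ : zpowers lL ≤ normalizer ((Qi : Subgroup (D.L i)) : Set (D.L i)) := by
          rw [zpowers_le, mem_normalizer_iff]
          intro z
          have e : l * (z : ↥K ⧸ R) * l⁻¹ = (l * c) * z * (l * c)⁻¹ := by
            rw [show (l * c) * (z : ↥K ⧸ R) * (l * c)⁻¹ = l * (c * z * c⁻¹) * l⁻¹ by group,
              ← mem_centralizer_iff.1 hc z z.2, mul_inv_cancel_right]
          rw [hQi, mem_subgroupOf, mem_subgroupOf]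
          show (z : ↥K ⧸ R) ∈ (Q : Subgroup (↥K ⧸ R)) ↔ l * (z : ↥K ⧸ R) * l⁻¹ ∈ (Q : Subgroup (↥K ⧸ R))
          rw [e]
          exact mem_normalizer_iff.1 (le_normalizer ht) z
        have hz2 : IsPGroup 2 (zpowers lL) := by
          obtain ⟨j, -, hje⟩ := (Nat.dvd_prime_pow Nat.prime_two).1
            (orderOf_dvd_of_pow_eq_one (show lL ^ (2 ^ k) = 1 from Subtype.ext hlk))
          exact IsPGroup.of_card (n := j) (by rw [Nat.card_zpowers, hje])
        have hp : IsPGroup 2 ↥((Qi : Subgroup (D.L i)) ⊔ zpowers lL) := Qi.2.to_sup_of_normal_left' hz2 hnQ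
        rw [← Qi.3 hp le_sup_left]
        exact mem_sup_right (mem_zpowers lL)
      have hwQi : (⟨w, hwL⟩ : D.L i) ∈ (Qi : Subgroup (D.L i)) := by rw [hQi]; exact hwQ
      have e := congrArg Subtype.val (((D.good i).syl Qi).1.central _ hwQi _ hlQ (Subtype.ext hww))
      change w * l = l * w at e
      have e2 : w * c = c * w := mem_centralizer_iff.1 hc w hwL
      calc w * (l * c) = l * (w * c) := by rw [← mul_assoc, e, mul_assoc]
        _ = l * c * w := by rw [e2, mul_assoc]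
    exact (mem_centralizer_singleton_iff.1 (hle (D.le_sup ha))).symm
  set R' := R.map K.subtype with hR'
  have hR'A : R' ≤ A := by
    rintro _ ⟨r, hr, rfl⟩
    exact hRA hr
  have hR'K : ∀ n ∈ K, ∀ r ∈ R', n * r * n⁻¹ = r := by
    rintro n hn _ ⟨r, hr, rfl⟩
    rw [mul_inv_eq_iff_eq_mul]
    exact congrArg Subtype.val (mem_center_iff.1 (hRc hr) ⟨n, hn⟩)
  have hmemR' : ∀ y : ↥K, (y : G) ∈ R' ↔ π y = 1 := fun y => by
    rw [hπdef, QuotientGroup.mk'_apply, QuotientGroup.eq_one_iff]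
    exact ⟨fun ⟨z, hz, e⟩ => Subtype.ext e ▸ hz, fun e => ⟨y, e, rfl⟩⟩
  have hTR : ∀ t ∈ (S : Subgroup G), t ∈ K → ∀ a ∈ A, ⁅t, a⁆ ∈ R' := by
    intro t ht htK a ha
    have ht' : (⟨t, htK⟩ : ↥K) ∈ (SK : Subgroup ↥K) := by rw [hSK]; exact ht
    have e := hcQ (π ⟨t, htK⟩) (by rw [hQdef, Sylow.coe_mapSurjective]; exact mem_map_of_mem _ ht')
      (π ⟨a, hAK ha⟩) (mem_map_of_mem _ (mem_subgroupOf.2 ha))
    rw [← commutatorElement_eq_one_iff_commute, ← map_commutatorElement, ← hmemR'] at e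
    exact e
  -- the action on `A`
  set NA := normalizer (A : Set G) with hNA
  set φ := A.normalizerMonoidHom with hφ
  have hV : ∀ a b : A, a * b = b * a := fun a b => Subtype.ext (h.comm a a.2 b b.2)
  have h2 : ∀ a : A, a * a = 1 := fun a => Subtype.ext (h.sq a a.2)
  haveI : Finite (MulAut A) := Finite.of_injective (fun σ => (σ : A → A)) DFunLike.coe_injective
  have happ : ∀ (x : NA) (a : A), (φ x a : G) = (x : G) * a * (x : G)⁻¹ := fun x a => rfl
  have hmov : ∀ (x : NA) (a : A), ((mov hV (φ x) a : A) : G) = ⁅(x : G), (a : G)⁆ := fun x a => rfl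
  have hφ1 : ∀ x : NA, (x : G) ∈ A → φ x = 1 := fun x hx => MulEquiv.ext fun a => Subtype.ext (by
    rw [happ, h.comm _ hx _ a.2, mul_inv_cancel_right]; rfl)
  have hφcomm : ∀ x y : NA, ⁅(x : G), (y : G)⁆ ∈ A → Commute (φ x) (φ y) := fun x y hxy => by
    rw [← commutatorElement_eq_one_iff_commute, ← map_commutatorElement]
    exact hφ1 _ hxy
  have hker : ∀ t ∈ (S : Subgroup G), (∀ a ∈ A, t * a * t⁻¹ = a) → t ∈ A := by
    intro t ht hta
    by_contra htA
    have h1 : A ≤ A ⊓ centralizer ({t} : Set G) := fun a ha =>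
      ⟨ha, mem_centralizer_singleton_iff.2 (mul_inv_eq_iff_eq_mul.1 (hta a ha)).symm⟩
    have := (card_le_of_le h1).trans (h.cent_card t ht htA)
    rw [h.cardA] at this
    omega
  -- the image of the normaliser in `K`
  let N1 : Subgroup NA := K.subgroupOf NA
  set H := N1.map φ with hH
  set T1 := ((S : Subgroup G) ⊓ K).subgroupOf NA with hT1
  set U := T1.map φ with hU
  have hT1N : T1 ≤ N1 := fun x hx => hx.2
  have hU2 : ∀ t ∈ T1, ∀ a ∈ A, ⁅(t : G), a⁆ ∈ R' := fun t ht a ha => hTR _ ht.1 ht.2 a ha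
  let M : Subgroup (MulAut A) :=
    { carrier := {σ | (∀ r : A, (r : G) ∈ R' → σ r = r) ∧ ∀ a, (((σ a * a⁻¹ : A)) : G) ∈ R'}
      one_mem' := ⟨fun r _ => rfl, fun a => by simp⟩
      mul_mem' := fun {σ τ} hσ hτ => ⟨fun r hr => by rw [MulAut.mul_apply, hτ.1 r hr, hσ.1 r hr], fun a => by
        rw [MulAut.mul_apply, show σ (τ a) * a⁻¹ = σ (τ a) * (τ a)⁻¹ * (τ a * a⁻¹) by group]
        exact R'.mul_mem (hσ.2 _) (hτ.2 a)⟩
      inv_mem' := fun {σ} hσ => by
        have e : ∀ a : A, σ⁻¹ (σ a) = a := fun a => by rw [← MulAut.mul_apply, inv_mul_cancel, MulAut.one_apply]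
        refine ⟨fun r hr => by conv_lhs => rw [← hσ.1 r hr, e], fun a => ?_⟩
        have e' : σ (σ⁻¹ a) = a := by rw [← MulAut.mul_apply, mul_inv_cancel, MulAut.one_apply]
        have e2 : σ⁻¹ a * a⁻¹ = (σ (σ⁻¹ a) * (σ⁻¹ a)⁻¹)⁻¹ := by rw [e']; group
        rw [e2]
        exact R'.inv_mem (hσ.2 _) }
  have hUM : U ≤ M := by
    rintro _ ⟨t, ht, rfl⟩
    exact ⟨fun r hr => Subtype.ext (hR'K _ ht.2 _ hr), fun a => hU2 t ht a a.2⟩
  have hMsq : ∀ σ ∈ M, σ * σ = 1 := fun σ hσ => MulEquiv.ext fun a => by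
    have e : σ a = (σ a * a⁻¹) * a := (inv_mul_cancel_right _ _).symm
    have e' : σ (σ a * a⁻¹) = σ a * a⁻¹ := hσ.1 _ (hσ.2 a)
    rw [MulAut.mul_apply, MulAut.one_apply]
    conv_lhs => arg 2; rw [e]
    rw [map_mul, e']
    conv_lhs => arg 2; rw [e]
    rw [← mul_assoc, h2, one_mul]
  have hsq : ∀ t ∈ T1, φ t * φ t = 1 := fun t ht => hMsq _ (hUM (mem_map_of_mem _ ht))
  have hUH : U ≤ H := map_mono hT1N
  have hUi : ¬ 2 ∣ U.relIndex H := by
    intro hd
    have h1 : ¬ 2 ∣ ((S : Subgroup G).subgroupOf K).index := hSK ▸ SK.not_dvd_index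
    refine h1 (hd.trans ?_)
    let ψ : ↥N1 →* ↥H := φ.subgroupMap N1
    have hψ : Function.Surjective ψ := φ.subgroupMap_surjective N1
    have e : (T1.subgroupOf N1).map ψ = U.subgroupOf H := by
      ext ⟨x, hx⟩
      constructor
      · rintro ⟨y, hy, hye⟩
        exact ⟨(y : NA), hy, congrArg Subtype.val hye⟩
      · rintro ⟨t, ht, hte⟩
        exact ⟨⟨t, hT1N ht⟩, ht, Subtype.ext hte⟩
    have e1 : U.relIndex H ∣ T1.relIndex N1 := by
      show (U.subgroupOf H).index ∣ (T1.subgroupOf N1).index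
      rw [← e]
      exact index_map_dvd _ hψ
    refine e1.trans ?_
    have e2 : T1.relIndex N1 = ((S : Subgroup G) ⊓ K).relIndex (N1.map NA.subtype) := by
      rw [hT1, subgroupOf, relIndex_comap]
    rw [e2, subgroupOf_map_subtype]
    show _ ∣ (S : Subgroup G).relIndex K
    rw [← inf_relIndex_right (S : Subgroup G) K]
    exact Dvd.intro _ (relIndex_mul_relIndex ((S : Subgroup G) ⊓ K) (K ⊓ NA) K
      (le_inf inf_le_right (inf_le_left.trans hcl.sylow_le_normalizer)) inf_le_left)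
  have hM : ∀ σ ∈ H, σ ∈ M → σ ∈ U := by
    intro σ hσ hσM
    have hp : IsPGroup 2 ↥(H ⊓ M : Subgroup (MulAut A)) := fun x => ⟨1, Subtype.ext (by
      rw [pow_one, SubgroupClass.coe_pow, pow_two]; exact hMsq _ x.2.2)⟩
    have hd : U.relIndex (H ⊓ M) ∣ U.relIndex H :=
      Dvd.intro _ (relIndex_mul_relIndex U (H ⊓ M) H (le_inf hUH hUM) inf_le_left)
    obtain ⟨k, hk⟩ := hp.index (U.subgroupOf (H ⊓ M))
    rcases Nat.eq_zero_or_pos k with rfl | hk0
    · rw [pow_zero, index_eq_one, subgroupOf_eq_top] at hk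
      exact hk ⟨hσ, hσM⟩
    · refine absurd (dvd_trans ?_ hd) hUi
      show 2 ∣ (U.subgroupOf (H ⊓ M)).index
      rw [hk]
      exact dvd_pow_self 2 hk0.ne'
  have hcen : ∀ σ ∈ H, ∀ τ ∈ U, Commute σ τ := by
    rintro _ ⟨n, hn, rfl⟩ _ ⟨t, ht, rfl⟩
    by_cases htA : (t : G) ∈ A
    · rw [hφ1 t htA]; exact Commute.one_right _
    have hconj : φ (n * t * n⁻¹) ∈ M := by
      refine ⟨fun r hr => Subtype.ext (hR'K _ (K.mul_mem (K.mul_mem hn ht.2) (K.inv_mem hn)) _ hr), fun a => ?_⟩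
      have ha : (n : G)⁻¹ * a * (n : G) ∈ A := by simpa using (mem_normalizer_iff.1 (NA.inv_mem n.2) a).1 a.2
      have e : (n : G) * ⁅(t : G), (n : G)⁻¹ * a * n⁆ * (n : G)⁻¹ = ⁅(t : G), (n : G)⁻¹ * a * n⁆ :=
        hR'K _ hn _ (hU2 t ht _ ha)
      have e' : ((φ (n * t * n⁻¹) a * a⁻¹ : A) : G) = (n : G) * ⁅(t : G), (n : G)⁻¹ * a * n⁆ * (n : G)⁻¹ := by
        show (n : G) * t * (n : G)⁻¹ * a * ((n : G) * t * (n : G)⁻¹)⁻¹ * (a : G)⁻¹ = _
        rw [commutatorElement_def]; group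
      rw [e', e]
      exact hU2 t ht _ ha
    obtain ⟨m, hm, hme⟩ := hM _ (mem_map_of_mem _ (N1.mul_mem (N1.mul_mem hn (hT1N ht)) (N1.inv_mem hn))) hconj
    have hmA : (m : G) ∉ A := fun e => htA (hker _ ht.1 fun a ha => by
      have h1 : φ (n * t * n⁻¹) = 1 := hme ▸ hφ1 m e
      rw [map_mul, map_mul, map_inv, mul_inv_eq_one, mul_eq_left] at h1
      exact congrArg Subtype.val (DFunLike.congr_fun h1 ⟨a, ha⟩))
    have hmt : (t : G)⁻¹ * (m : G) ∈ A := by
      by_contra hne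
      have hsqA : ∀ s ∈ T1, (s : G) * (s : G) ∈ A := fun s hs => hker _ ((S : Subgroup G).mul_mem hs.1 hs.1) fun a ha => by
        have e' := congrArg Subtype.val (DFunLike.congr_fun ((map_mul φ s s).trans (hsq s hs)) ⟨a, ha⟩)
        exact e'
      obtain ⟨a, ha, hab⟩ := h.distinct _ ht.1 htA (hsqA t ht) _ hm.1 hmA (hsqA m hm) hne
      have hna := (mem_normalizer_iff.1 n.2 a).1 ha
      refine hab _ hna ?_
      have hr : (n : G) * ⁅(t : G), a⁆ * (n : G)⁻¹ = ⁅(t : G), a⁆ := hR'K _ hn _ (hU2 t ht a ha)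
      have e1 : (m : G) * ((n : G) * a * (n : G)⁻¹) * (m : G)⁻¹ =
          (n : G) * t * (n : G)⁻¹ * ((n : G) * a * (n : G)⁻¹) * ((n : G) * t * (n : G)⁻¹)⁻¹ := by
        have e' := congrArg Subtype.val (DFunLike.congr_fun hme ⟨_, hna⟩)
        exact e'
      show ⁅(t : G), a⁆ = ⁅(m : G), (n : G) * a * (n : G)⁻¹⁆
      rw [← hr, commutatorElement_def, commutatorElement_def, e1]
      group
    have e : φ (n * t * n⁻¹) = φ t := by
      rw [← hme, show m = t * (t⁻¹ * m) by group, map_mul, hφ1 (t⁻¹ * m) hmt, mul_one]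
    rw [map_mul, map_mul, map_inv] at e
    exact mul_inv_eq_iff_eq_mul.1 e
  -- the elements of odd order
  haveI : (U.subgroupOf H).Normal := ⟨fun u hu x => by
    rw [mem_subgroupOf]
    show (x : MulAut A) * u * (x : MulAut A)⁻¹ ∈ U
    rw [(show Commute (x : MulAut A) (u : MulAut A) from hcen _ x.2 _ hu).eq, mul_inv_cancel_right]
    exact hu⟩
  have hUp : IsPGroup 2 U := fun x => ⟨1, Subtype.ext (by
    rw [pow_one, SubgroupClass.coe_pow, pow_two]; exact hMsq _ (hUM x.2))⟩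
  obtain ⟨C, hC⟩ := exists_right_complement'_of_coprime (N := U.subgroupOf H) (by
    obtain ⟨k, hk⟩ := hUp.exists_card_eq
    rw [Nat.card_congr (subgroupOfEquivOfLe hUH).toEquiv, hk]
    exact ((Nat.prime_two.coprime_iff_not_dvd).2 hUi).pow_left k)
  set X := C.map H.subtype with hX
  have hXodd : Odd (Nat.card X) := by
    rw [← Nat.card_congr (C.equivMapOfInjective _ H.subtype_injective).toEquiv, ← hC.symm.index_eq_card,
      Nat.odd_iff]
    have : (U.subgroupOf H).index % 2 ≠ 0 := fun e => hUi (Nat.dvd_of_mod_eq_zero e)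
    omega
  have hXH : X ≤ H := map_subtype_le C
  have hoddmem : ∀ σ ∈ H, Odd (orderOf σ) → σ ∈ X := by
    intro σ hσ hodd
    obtain ⟨⟨u, y⟩, huy, -⟩ := hC.existsUnique ⟨σ, hσ⟩
    have e : (u : MulAut A) * (y : MulAut A) = σ := congrArg Subtype.val huy
    have hcm : Commute (u : MulAut A) (y : MulAut A) := (hcen _ (y : H).2 _ u.2).symm
    have e1 : ((u : MulAut A) * (y : MulAut A)) ^ orderOf σ = 1 := by rw [e, pow_orderOf_eq_one]
    rw [hcm.mul_pow] at e1
    obtain ⟨j, hj⟩ := hodd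
    have eu : (u : MulAut A) ^ orderOf σ = u := by
      rw [hj, pow_succ, pow_mul, pow_two, show (u : MulAut A) * u = 1 from hMsq _ (hUM u.2), one_pow, one_mul]
    rw [eu] at e1
    have hu1 : (u : ↥H) ∈ U.subgroupOf H ⊓ C := by
      refine ⟨u.2, ?_⟩
      have e2 : (u : ↥H) = ((y : ↥H) ^ orderOf σ)⁻¹ := Subtype.ext (eq_inv_of_mul_eq_one_left e1)
      rw [e2]
      exact C.inv_mem (C.pow_mem y.2 _)
    rw [hC.disjoint.eq_bot, mem_bot] at hu1
    refine ⟨y, y.2, ?_⟩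
    show (y : MulAut A) = σ
    rw [← e, show (u : MulAut A) = 1 from congrArg Subtype.val hu1, one_mul]
  obtain ⟨e₀, he₀, f₀, hf₀, heA, hfA, hefA, hee, hff, hef, hr1, hr2, hr3, hce, hcf, ⟨a₁, ha₁, b₁, hb₁, hab₁, hne₁⟩,
    a₂, ha₂, hout⟩ := h.pair
  let e' : NA := ⟨e₀, h.norm he₀⟩
  let f' : NA := ⟨f₀, h.norm hf₀⟩
  set ε := φ e' with hε
  set ζ := φ f' with hζ
  have hnorm : ∀ g : NA, φ g ∈ normalizer (X : Set (MulAut A)) := fun g => by
    have hone : ∀ g : NA, ∀ σ ∈ X, φ g * σ * (φ g)⁻¹ ∈ X := by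
      intro g σ hσ
      obtain ⟨n, hn, hne⟩ := hXH hσ
      refine hoddmem _ ⟨g * n * g⁻¹, (inferInstance : K.Normal).conj_mem _ hn _, by simp [hne]⟩ ?_
      rw [← MulAut.conj_apply, MulEquiv.orderOf_eq]
      exact hXodd.of_dvd_nat (Subgroup.orderOf_dvd_natCard _ hσ)
    exact mem_normalizer_iff.2 fun σ => ⟨hone g σ, fun hσ => by
      have := hone g⁻¹ _ hσ
      simpa [mul_assoc] using this⟩
  have hε2 : ε * ε = 1 := by rw [hε, ← map_mul]; exact hφ1 _ hee
  have hζ2 : ζ * ζ = 1 := by rw [hζ, ← map_mul]; exact hφ1 _ hff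
  have hεζ : Commute ε ζ := hφcomm e' f' hef
  have hφker : ∀ x : NA, (x : G) ∈ (S : Subgroup G) → φ x = 1 → (x : G) ∈ A := fun x hx e =>
    hker _ hx fun a ha => by
      have e' := congrArg Subtype.val (DFunLike.congr_fun e ⟨a, ha⟩)
      exact e'
  have hrelA : ∀ p q : NA, Rel A (p : G) (q : G) → ARel hV (φ p) (φ q) := by
    refine fun p q hr => ⟨?_, fun c hc => ?_⟩
    · rintro _ ⟨a, rfl⟩
      refine Subtype.ext ?_
      rw [happ, hmov, (hr.fix a a.2).eq, mul_inv_cancel_right]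
    · have hc' : Commute (q : G) (c : G) := mul_inv_eq_iff_eq_mul.1 (congrArg Subtype.val hc)
      obtain ⟨a, ha, he⟩ := hr.low c c.2 hc'
      exact ⟨⟨a, ha⟩, Subtype.ext (he.symm.trans (hmov p c).symm)⟩
  have hk16 : ∀ x : NA, Nat.card ↥(A ⊓ centralizer ({(x : G)} : Set G)) = 16 →
      Nat.card (mov hV (φ x)).ker = 16 ∧ Nat.card (mov hV (φ x)).range = 4 := by
    intro x hx
    have h16 : Nat.card (mov hV (φ x)).ker = 16 := by
      rw [← hx]
      refine Nat.card_congr ⟨fun a => ⟨a.1.1, a.1.2, mem_centralizer_singleton_iff.2 ?_⟩,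
        fun a => ⟨⟨a.1, a.2.1⟩, (mem_ker_mov hV).2 (Subtype.ext ?_)⟩, fun a => rfl, fun a => rfl⟩
      · have e := congrArg Subtype.val ((mem_ker_mov hV).1 a.2)
        rw [happ] at e
        exact (mul_inv_eq_iff_eq_mul.1 e).symm
      · rw [happ, ← mem_centralizer_singleton_iff.1 a.2.2, mul_inv_cancel_right]
    refine ⟨h16, ?_⟩
    have := (mov hV (φ x)).ker.card_mul_index
    rw [index_ker, h16, h.cardA] at this
    omega
  have hrfe := hrelA f' e' hr1
  have href := hrelA e' f' hr2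
  have hrf3 : ARel hV ζ (ε * ζ) := by rw [hε, hζ, ← map_mul]; exact hrelA f' (e' * f') hr3
  have hXc : X ≤ centralizer ({ε, ζ} : Set (MulAut A)) := by
    have hε1 : ε ≠ 1 := fun e => heA (hφker e' he₀ e)
    have hζ1 : ζ ≠ 1 := fun e => hfA (hφker f' hf₀ e)
    have hne' : ε ≠ ζ := fun e => hefA (hφker (e' * f') ((S : Subgroup G).mul_mem he₀ hf₀) (by
      rw [map_mul, ← hε, ← hζ, e, hζ2]))
    refine CfsgLib.Bender.le_of_four_centralizers hXodd (orderOf_eq_prime (by rw [pow_two]; exact hε2) hε1)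
      (orderOf_eq_prime (by rw [pow_two]; exact hζ2) hζ1) hεζ.eq hne' (hnorm e') (hnorm f') ?_
    intro x hx b hb hxb
    obtain ⟨c1, c2⟩ : Commute x ε ∧ Commute x ζ := by
      rcases hb with rfl | rfl | rfl
      · exact ⟨hxb, commute_of_rel hV h2 hXodd (hnorm f') hζ2 hεζ.symm hrfe hx hxb⟩
      · exact ⟨commute_of_rel hV h2 hXodd (hnorm e') hε2 hεζ href hx hxb, hxb⟩
      · have h1 : Commute x ζ :=
          commute_of_rel hV h2 hXodd (hnorm f') hζ2 (hεζ.symm.mul_right (Commute.refl ζ)) hrf3 hx hxb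
        refine ⟨?_, h1⟩
        have := (show Commute x (ε * ζ) from hxb).mul_right h1
        rwa [mul_assoc, hζ2, mul_one] at this
    refine mem_centralizer_iff.2 fun v hv => ?_
    rcases hv with rfl | rfl
    · exact c1.symm.eq
    · exact c2.symm.eq
  have hX1 : ∀ x ∈ X, x = 1 := fun x hx => by
    have hxc := mem_centralizer_iff.1 (hXc hx)
    obtain ⟨hce1, hce2⟩ := hk16 e' hce
    exact eq_one_of_centralizes hV h2 (hXodd.of_dvd_nat (Subgroup.orderOf_dvd_natCard _ hx))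
      (hxc ε (Or.inl rfl)).symm (hxc ζ (Or.inr rfl)).symm hεζ.symm hε2 hrfe hce2 hce1 (hk16 f' hcf).2
      ⟨⟨a₁, ha₁⟩, ⟨b₁, hb₁⟩, Subtype.ext hab₁, fun e => hne₁ (congrArg Subtype.val e)⟩
      ⟨⟨a₂, ha₂⟩, fun b e => hout b b.2 (congrArg Subtype.val e)⟩
  have hall : ∀ n ∈ K, n ∈ NA → ∀ a ∈ A, ⁅n, a⁆ ∈ R' := by
    intro n hn hnA a ha
    have hσ : φ ⟨n, hnA⟩ ∈ H := mem_map_of_mem _ (show (⟨n, hnA⟩ : NA) ∈ N1 from hn)
    obtain ⟨⟨u, y⟩, huy, -⟩ := hC.existsUnique ⟨_, hσ⟩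
    have e : (u : MulAut A) * (y : MulAut A) = φ ⟨n, hnA⟩ := congrArg Subtype.val huy
    rw [show (y : MulAut A) = 1 from hX1 _ (mem_map_of_mem _ y.2), mul_one] at e
    have : ((((u : MulAut A) ⟨a, ha⟩ * (⟨a, ha⟩ : A)⁻¹ : A)) : G) ∈ R' := (hUM u.2).2 ⟨a, ha⟩
    rw [e] at this
    exact this
  -- the image of `A` is central in the quotient
  have hπA : ∀ y : ↥K, π y ∈ B → (y : G) ∈ A := fun y hy => by
    obtain ⟨a, ha, hae⟩ := hy
    have hd : ((a⁻¹ * y : ↥K) : G) ∈ R' := by rw [hmemR', map_mul, map_inv, hae, inv_mul_cancel]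
    simpa using A.mul_mem (mem_subgroupOf.1 ha) (hR'A hd)
  have hBc : B ≤ center (↥K ⧸ R) := by
    intro b hb
    refine mem_center_iff.2 fun g => ?_
    have hfix : ∀ (g : ↥K ⧸ R) (k : ℕ), g * b ^ k * g⁻¹ ∈ B → g * b ^ k * g⁻¹ = b ^ k := by
      intro g k hk
      obtain ⟨n, hn, hne⟩ := hclQ.exists_normalizer_conj (B.pow_mem hb k) hk
      obtain ⟨y, rfl⟩ := hπ n
      obtain ⟨a, ha, hae⟩ := B.pow_mem hb k
      have hyA : (y : G) ∈ NA := hcl.mem_normalizer_of_forall fun x hx => hcl.le (by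
        have h1 : π (y * ⟨x, hAK hx⟩ * y⁻¹) ∈ B := by
          rw [map_mul, map_mul, map_inv]
          exact (mem_normalizer_iff.1 hn _).1 (mem_map_of_mem _ (mem_subgroupOf.2 hx))
        exact hπA _ h1)
      have h2' := hall _ y.2 hyA _ (mem_subgroupOf.1 ha)
      have h3 : π ⁅y, a⁆ = 1 := (hmemR' ⁅y, a⁆).1 h2'
      rw [map_commutatorElement, hae, commutatorElement_def, mul_inv_eq_one] at h3
      rw [← hne]; exact h3
    have hOtop : pPrimeCore 2 ↥(⊤ : Subgroup (↥K ⧸ R)) = ⊥ :=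
      (map_eq_bot_iff_of_injective _ (⊤ : Subgroup (↥K ⧸ R)).subtype_injective).1
        (le_bot_iff.1 ((CfsgLib.Core.map_subtype_pPrimeCore_le (p := 2) _).trans hOQ.le))
    exact (hclQ.commute_of_fixed hOtop hb hfix (mem_top _)).eq.symm
  rw [D.center_eq_bot, le_bot_iff, hBdef, Subgroup.map_eq_bot_iff, QuotientGroup.ker_mk'] at hBc
  have hA : A = R' := le_antisymm (fun a ha => ⟨⟨a, hAK ha⟩, hBc ha, rfl⟩) hR'A
  rw [hA]
  infer_instance

/-- **S3169**, from the inputs. -/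
theorem sylow_mod_center_normal (hG : CfsgLib.SThreeFree.GoldschmidtInput.{u}) (hW : CfsgLib.Walter.WalterList.{u})
    (hO : oddCore G = ⊥) (S : Sylow 2 G) (P : Sylow 2 ↥Cfsg.M24)
    (hS : Nonempty (↥(S : Subgroup G) ≃* (↥(P : Subgroup ↥Cfsg.M24) ⧸ Subgroup.center ↥(P : Subgroup ↥Cfsg.M24))))
    (A : Subgroup G) (huniq : Uniq S A) : A.Normal :=
  normal_of_shape (exists_shape S P hS A huniq) huniq hG hW hO

open CfsgLib.TwoFusion.StructGold in
/-- **S3170**, from the inputs. -/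
theorem extraspecial_normal {H : Type u} [Group H] [Finite H] (hG : CfsgLib.SThreeFree.GoldschmidtInput.{u})
    (hW : CfsgLib.Walter.WalterList.{u}) (hO : oddCore H = ⊥) (T : Sylow 2 H) (P : Sylow 2 ↥Cfsg.M24)
    (hT : Nonempty (↥(T : Subgroup H) ≃* ↥(P : Subgroup ↥Cfsg.M24)))
    (hZ : ∀ z ∈ (T : Subgroup H), (∀ t ∈ (T : Subgroup H), z * t = t * z) → z ∈ Subgroup.center H)
    (E : Subgroup H) (hE : E ≤ (T : Subgroup H)) (hEn : (E.subgroupOf (T : Subgroup H)).Normal)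
    (hEx : Cfsg.IsExtraspecial 2 ↥E) (hE7 : Nat.card ↥E = 2 ^ 7) : E.Normal := by
  classical
  haveI := Fact.mk Nat.prime_two
  obtain ⟨e⟩ := hT
  set Z := (center ↥(T : Subgroup H)).map (T : Subgroup H).subtype with hZdef
  have hZc : Z ≤ center H := by
    rintro _ ⟨z, hz, rfl⟩
    exact hZ _ z.2 fun t ht => congrArg Subtype.val (mem_center_iff.1 hz ⟨t, ht⟩).symm
  haveI : Z.Normal := ⟨fun x hx g => by rwa [mem_center_iff.1 (hZc hx) g, mul_inv_cancel_right]⟩
  have hZT : Z ≤ (T : Subgroup H) := map_subtype_le _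
  have hidx : ¬ 2 ∣ CfsgLib.LocalEven.M24Sylow.syl.index := by
    have h := Subgroup.card_mul_index CfsgLib.LocalEven.M24Sylow.syl
    rw [CfsgLib.LocalEven.M24Sylow.card_syl, CfsgLib.Sporadic.M24_card] at h
    omega
  set ψ := (CfsgLib.LocalEven.M24Sylow.isPGroup_syl.toSylow hidx).equiv P with hψ
  have hZ2 : Nat.card Z = 2 := by
    rw [hZdef, ← Nat.card_congr ((center ↥(T : Subgroup H)).equivMapOfInjective _ (subtype_injective _)).toEquiv,
      Nat.card_congr (Subgroup.centerCongr (e.trans ψ.symm)).toEquiv]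
    exact CfsgLib.TwoGroups.M24Quotient.card_center_syl
  obtain ⟨⟨-, -, hcomm⟩, hc2⟩ := hEx
  have hZcE : ∀ z ∈ Z, z ∈ E → z ∈ (center ↥E).map E.subtype := fun z hz hzE =>
    ⟨⟨z, hzE⟩, mem_center_iff.2 fun y => Subtype.ext (mem_center_iff.1 (hZc hz) y), rfl⟩
  have hET : E ≠ ⊥ := fun h => by
    rw [h, card_bot] at hE7
    norm_num at hE7
  obtain ⟨z₀, hz₀, hz₀E, hz₀1⟩ : ∃ z ∈ Z, z ∈ E ∧ z ≠ 1 := by
    haveI := hEn
    have hne : E.subgroupOf (T : Subgroup H) ≠ ⊥ := fun h => hET (by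
      rwa [subgroupOf_eq_bot, disjoint_iff, inf_eq_left.2 hE] at h)
    obtain ⟨z, hz, hz1⟩ := (Subgroup.bot_or_exists_ne_one _).resolve_left
      (CfsgLib.PGroups.inf_center_ne_bot T.2 hne)
    exact ⟨z, mem_map_of_mem _ hz.2, hz.1, fun e => hz1 (Subtype.ext e)⟩
  have hcard : Nat.card ↥((center ↥E).map E.subtype) = 2 := by
    rw [← Nat.card_congr ((center ↥E).equivMapOfInjective _ (subtype_injective _)).toEquiv, hc2]
  have hZE : Z = (center ↥E).map E.subtype := by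
    have h1 : zpowers z₀ ≤ Z := zpowers_le.2 hz₀
    have h2 : zpowers z₀ ≤ (center ↥E).map E.subtype := zpowers_le.2 (hZcE z₀ hz₀ hz₀E)
    have h3 : 2 ≤ Nat.card (zpowers z₀) := by
      rw [Nat.card_zpowers]
      have := orderOf_pos z₀
      have : orderOf z₀ ≠ 1 := fun e => hz₀1 (orderOf_eq_one_iff.1 e)
      omega
    exact (eq_of_le_of_card_ge h1 (hZ2.le.trans h3)).symm.trans (eq_of_le_of_card_ge h2 (hcard.le.trans h3))
  have hZleE : Z ≤ E := hZE.le.trans (map_subtype_le _)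
  set π := QuotientGroup.mk' Z with hπ
  have hπs : Function.Surjective π := QuotientGroup.mk'_surjective Z
  set S := T.mapSurjective hπs with hSdef
  let θ : ↥(T : Subgroup H) →* H ⧸ Z := π.comp (T : Subgroup H).subtype
  have hθk : θ.ker = center ↥(T : Subgroup H) := by
    ext x
    rw [MonoidHom.mem_ker]
    show π (x : H) = 1 ↔ _
    rw [hπ, QuotientGroup.mk'_apply, QuotientGroup.eq_one_iff, hZdef]
    exact ⟨fun ⟨y, hy, hye⟩ => Subtype.ext hye ▸ hy, fun hx => ⟨x, hx, rfl⟩⟩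
  have hθr : θ.range = (S : Subgroup (H ⧸ Z)) := by
    rw [hSdef, Sylow.coe_mapSurjective, MonoidHom.range_comp, range_subtype]
  have hcz : (center ↥(T : Subgroup H)).map e.toMonoidHom = center ↥(P : Subgroup ↥Cfsg.M24) := by
    ext y
    rw [mem_map_equiv]
    simp only [mem_center_iff]
    exact ⟨fun h g => e.symm.injective (by simpa using h (e.symm g)),
      fun h g => e.injective (by simpa using h (e g))⟩
  let e2 : ↥(S : Subgroup (H ⧸ Z)) ≃* ↥(P : Subgroup ↥Cfsg.M24) ⧸ Subgroup.center ↥(P : Subgroup ↥Cfsg.M24) :=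
    (MulEquiv.subgroupCongr hθr).symm.trans ((QuotientGroup.quotientKerEquivRange θ).symm.trans
      ((QuotientGroup.quotientMulEquivOfEq hθk).trans (QuotientGroup.congr _ _ e hcz)))
  obtain ⟨-, E₀, -, -, huE⟩ := CfsgLib.TwoGroups.M24Quotient.main ψ
  have hES : E.map π ≤ (S : Subgroup (H ⧸ Z)) := by
    rw [hSdef, Sylow.coe_mapSurjective]; exact map_mono hE
  have hEab : IsMulCommutative ↥(E.map π) := ⟨⟨by
    rintro ⟨_, x, hx, rfl⟩ ⟨_, y, hy, rfl⟩
    refine Subtype.ext (commutatorElement_eq_one_iff_commute.1 ?_)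
    show ⁅π x, π y⁆ = 1
    rw [← map_commutatorElement, hπ, QuotientGroup.mk'_apply, QuotientGroup.eq_one_iff, hZE, ← hcomm]
    exact ⟨⁅(⟨x, hx⟩ : ↥E), ⟨y, hy⟩⁆, commutator_mem_commutator (mem_top _) (mem_top _), rfl⟩⟩⟩
  have hE64 : Nat.card ↥(E.map π) = 64 := by
    have h1 := CfsgLib.Core.card_comap_mk' Z (E.map π)
    rw [comap_map_eq, QuotientGroup.ker_mk', sup_eq_left.2 hZleE, hE7, hZ2] at h1
    omega
  have huniq : Uniq S (E.map π) := by
    intro B hB hBc hB64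
    have key : ∀ D : Subgroup (H ⧸ Z), D ≤ (S : Subgroup (H ⧸ Z)) → IsMulCommutative ↥D → Nat.card ↥D = 64 →
        (D.subgroupOf (S : Subgroup (H ⧸ Z))).map e2.toMonoidHom = E₀ := by
      intro D hD hDc hD64
      refine huE _ ?_ ?_
      · haveI : IsMulCommutative ↥(D.subgroupOf (S : Subgroup (H ⧸ Z))) :=
          ⟨⟨fun a b => Subtype.ext (Subtype.ext (congrArg Subtype.val (hDc.is_comm.comm ⟨_, a.2⟩ ⟨_, b.2⟩) :))⟩⟩
        exact Subgroup.map_isMulCommutative _ _
      · rw [← Nat.card_congr ((D.subgroupOf (S : Subgroup (H ⧸ Z))).equivMapOfInjective _ e2.injective).toEquiv,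
          Nat.card_congr (subgroupOfEquivOfLe hD).toEquiv, hD64]
    have := map_injective (f := e2.toMonoidHom) e2.injective ((key B hB hBc hB64).trans (key _ hES hEab hE64).symm)
    rw [subgroupOf_inj, inf_eq_left.2 hB, inf_eq_left.2 hES] at this
    exact this
  have hO' : oddCore (H ⧸ Z) = ⊥ :=
    pPrimeCore_quotient_central hZc (T.2.to_le hZT) hO
  have hn := sylow_mod_center_normal (G := H ⧸ Z) hG hW hO' S P ⟨e2⟩ (E.map π) huniq
  have := hn.comap π
  rwa [comap_map_eq, QuotientGroup.ker_mk', sup_eq_left.2 hZleE] at this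

end CfsgLib.TwoFusion.M24Type
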