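import Cfsg.Agent.Lib.TwoFusion.M24Type.Model
import Mathlib.Algebra.Group.Commutator

/-!
Owner: helper23. The facts on a Sylow 2-subgroup of `M24` modulo its centre used for S3169.

* `Rel A f e`: `f` acts trivially on `[e, A]` and on `C_A(e) / [e, A]`.
* `Shape S A`: the facts.
* `exists_shape`: they hold for a group isomorphic to `P / Z(P)`.
-/

set_option autoImplicit false
set_option linter.style.haveILetI false
set_option linter.unusedSectionVars false

namespace CfsgLib.TwoFusion.M24Type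

open Subgroup
open scoped commutatorElement
open CfsgLib.Sporadic CfsgLib.LocalEven.M24Sylow

variable {G : Type*} [Group G]

/-- `f` centralizes `[e, A]` and `C_A(e) / [e, A]`. -/
structure Rel (A : Subgroup G) (f e : G) : Prop where
  fix : ∀ a ∈ A, Commute f ⁅e, a⁆
  low : ∀ c ∈ A, Commute e c → ∃ a ∈ A, ⁅f, c⁆ = ⁅e, a⁆

/-- The facts on `S` and its abelian subgroup `A` of order 64. -/
structure Shape (S A : Subgroup G) : Prop where
  le : A ≤ S
  card : Nat.card S = 512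
  cardA : Nat.card A = 64
  comm : ∀ a ∈ A, ∀ b ∈ A, a * b = b * a
  sq : ∀ a ∈ A, a * a = 1
  norm : S ≤ normalizer (A : Set G)
  cent_card : ∀ x ∈ S, x ∉ A → Nat.card ↥(A ⊓ centralizer ({x} : Set G)) ≤ 16
  cent_inv : ∀ x ∈ S, x ∉ A → x * x = 1 → Nat.card ↥(A ⊓ centralizer ({x} : Set G)) = 16
  cent_pair : ∀ x ∈ S, x ∉ A → ∀ y ∈ S, y ∉ A → x⁻¹ * y ∉ A →
    Nat.card ↥(A ⊓ centralizer ({x} : Set G) ⊓ centralizer ({y} : Set G)) ≤ 8
  nonab : ∃ g ∈ S, ∃ h ∈ S, ⁅g, h⁆ ∉ A
  acts : ∀ x ∈ S, x ∉ A → x * x = 1 → ∀ g ∈ S, ⁅g, x⁆ ∈ A → ∀ a ∈ A, Commute x ⁅g, a⁆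
  cases : ∀ x ∈ S, x ∉ A → x * x = 1 →
    (∀ g ∈ S, g ∉ A → x * g ∉ A → ⁅g, x⁆ ∈ A → ∀ g' ∈ S, ⁅g', x⁆ ∈ A →
        g' ∈ A ∨ x * g' ∈ A ∨ g * g' ∈ A ∨ x * g * g' ∈ A) ∨
      ∀ g ∈ S, ∀ g' ∈ S, Commute x ⁅g, g'⁆ ∧ ∀ a ∈ A, Commute x a → Commute a ⁅g, g'⁆
  distinct : ∀ x ∈ S, x ∉ A → x * x ∈ A → ∀ y ∈ S, y ∉ A → y * y ∈ A → x⁻¹ * y ∉ A → ∃ a ∈ A, ∀ b ∈ A, ⁅x, a⁆ ≠ ⁅y, b⁆
  pair : ∃ e ∈ S, ∃ f ∈ S, e ∉ A ∧ f ∉ A ∧ e * f ∉ A ∧ e * e ∈ A ∧ f * f ∈ A ∧ ⁅e, f⁆ ∈ A ∧
    Rel A f e ∧ Rel A e f ∧ Rel A f (e * f) ∧ Nat.card ↥(A ⊓ centralizer ({e} : Set G)) = 16 ∧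
    Nat.card ↥(A ⊓ centralizer ({f} : Set G)) = 16 ∧
    (∃ a ∈ A, ∃ b ∈ A, ⁅e, a⁆ = ⁅f, b⁆ ∧ ⁅e, a⁆ ≠ 1) ∧ ∃ a ∈ A, ∀ b ∈ A, ⁅f, a⁆ ≠ ⁅e, b⁆

/-- Existence of a witness below a bound. -/
noncomputable def anyLt (n : ℕ) (f : ℕ → Bool) : Bool := Nat.rec false (fun k ih => f k || ih) n

theorem anyLt_elim {n : ℕ} {f : ℕ → Bool} (h : anyLt n f = true) : ∃ k, k < n ∧ f k = true := by
  induction n with
  | zero => simp [anyLt] at h
  | succ n ih =>
    change (f n || anyLt n f) = true at h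
    rcases Bool.or_eq_true _ _ ▸ h with h | h
    · exact ⟨n, by omega, h⟩
    · obtain ⟨k, hk, hf⟩ := ih h
      exact ⟨k, by omega, hf⟩

/-- The code of an element commutes with `x`. -/
noncomputable def ccomm (x a : ℕ) : Bool := Nat.beq (ccom x a) 0

/-- A representative outside the subgroup whose coset contains an involution. -/
noncomputable def invRep (i : ℕ) : Bool := anyLt 64 fun j => Nat.beq (cmul (64 * i + j) (64 * i + j)) 0

theorem cmul_div (x : ℕ) {y : ℕ} (hy : y < 512) :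
    cmul x y / 64 = (ptTab.getD (x / 64) []).getD (y / 64) 0 / 64 := by
  have ha := forallLt_elim (forallLt_elim act_lt (show y / 64 < 8 by omega))
    (show x % 64 < 64 from Nat.mod_lt _ (by norm_num))
  rw [Nat.blt_eq] at ha
  show (64 * ((ptTab.getD (x / 64) []).getD (y / 64) 0 / 64) +
    ((((ptTab.getD (x / 64) []).getD (y / 64) 0 % 64) ^^^ act (y / 64) (x % 64)) ^^^ y % 64)) / 64 = _
  have hp : ((ptTab.getD (x / 64) []).getD (y / 64) 0) % 64 < 2 ^ 6 := Nat.mod_lt _ (by norm_num)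
  have hy' : y % 64 < 2 ^ 6 := Nat.mod_lt _ (by norm_num)
  have hq := Nat.xor_lt_two_pow (Nat.xor_lt_two_pow hp (show act (y / 64) (x % 64) < 2 ^ 6 from ha)) hy'
  rw [show (2 : ℕ) ^ 6 = 64 from rfl] at hq
  omega

theorem chk_sq : forallLt 64 (fun a => Nat.beq (cmul a a) 0 && forallLt 64 (fun b =>
    Nat.beq (cmul a b) (cmul b a) && Nat.blt (cmul a b) 64) && Nat.blt (cinv a) 64) = true := by
  decide +kernel

theorem chk_norm : forallLt 8 (fun k => forallLt 64 (fun a =>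
    Nat.blt (cmul (cmul (64 * k) a) (cinv (64 * k))) 64)) = true := by decide +kernel

theorem chk_cent : forallLt 8 (fun i => Nat.beq i 0 ||
    (Nat.ble (countLt 64 fun a => ccomm (64 * i) a) 16 &&
      (!invRep i || Nat.beq (countLt 64 fun a => ccomm (64 * i) a) 16) &&
      forallLt 8 (fun k => Nat.beq k 0 || Nat.beq k i ||
        Nat.ble (countLt 64 fun a => ccomm (64 * i) a && ccomm (64 * k) a) 8))) = true := by
  decide +kernel

theorem chk_dec : forallLt 512 (fun x =>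
    Nat.beq (cmul (64 * Nat.div x 64) (Nat.mod x 64)) x) = true := by decide +kernel

theorem chk_nonab : (Nat.ble 64 (ccom 64 128) && Nat.blt 64 512) = true := by decide +kernel

theorem chk_acts : forallLt 8 (fun i => !invRep i || Nat.beq i 0 || forallLt 8 (fun k =>
    Nat.ble 64 (ccom (64 * k) (64 * i)) ||
      forallLt 64 (fun a => ccomm (64 * i) (ccom (64 * k) a)))) = true := by decide +kernel

theorem chk_comm_coset : forallLt 512 (fun x => forallLt 8 (fun k =>
    Nat.ble 64 (ccom (64 * k) x) == Nat.ble 64 (ccom (64 * k) (64 * Nat.div x 64)))) = true := by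
  decide +kernel

theorem chk_cases : forallLt 8 (fun i => !invRep i || Nat.beq i 0 || Nat.beq i 6 ||
    forallLt 8 (fun k => Nat.beq k 0 || Nat.beq k i || Nat.ble 64 (ccom (64 * k) (64 * i)) ||
      forallLt 8 (fun l => Nat.ble 64 (ccom (64 * l) (64 * i)) || Nat.beq l 0 ||
        Nat.blt (cmul (64 * i) (64 * l)) 64 || Nat.blt (cmul (64 * k) (64 * l)) 64 ||
        Nat.blt (cmul (cmul (64 * i) (64 * k)) (64 * l)) 64))) = true := by
  decide +kernel

/-- The normal elementary subgroup of order 32 over the central coset. -/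
noncomputable def inZ (x : ℕ) : Bool :=
  (Nat.blt x 64 && ccomm 384 x) || (Nat.beq (Nat.div x 64) 6 && Nat.beq (cmul x x) 0)

theorem chk_Z : forallLt 2 (fun s => forallLt 64 (fun j => !inZ (384 * s + j) ||
    (forallLt 2 (fun t => forallLt 64 (fun l => !inZ (384 * t + l) ||
        (inZ (cmul (384 * s + j) (384 * t + l)) &&
          Nat.beq (cmul (384 * s + j) (384 * t + l)) (cmul (384 * t + l) (384 * s + j))))) &&
      forallLt 8 (fun k => inZ (cmul (cmul (64 * k) (384 * s + j)) (cinv (64 * k))))))) = true := by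
  decide +kernel

theorem inZ_split {x : ℕ} (h : inZ x = true) : ∃ s j, s < 2 ∧ j < 64 ∧ x = 384 * s + j := by
  unfold inZ at h
  simp only [Bool.or_eq_true, Bool.and_eq_true, Nat.blt_eq, Nat.beq_eq] at h
  rcases h with ⟨h, -⟩ | ⟨h, -⟩
  · exact ⟨0, x, by norm_num, h, by simp⟩
  · exact ⟨1, x % 64, by norm_num, Nat.mod_lt _ (by norm_num), by
      change x / 64 = 6 at h
      omega⟩

theorem chk_Z_comm : forallLt 8 (fun k =>
    forallLt 8 (fun i => inZ (ccom (64 * k) (64 * i))) &&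
      forallLt 64 (fun a => inZ (ccom (64 * k) a) && inZ (cinv (ccom (64 * k) a)))) = true := by
  decide +kernel

theorem chk_distinct : forallLt 8 (fun i => Nat.beq i 0 || !Nat.blt (cmul (64 * i) (64 * i)) 64 ||
    forallLt 8 (fun k => Nat.beq k 0 || Nat.beq k i || !Nat.blt (cmul (64 * k) (64 * k)) 64 ||
    anyLt 64 (fun a => forallLt 64 (fun b => !Nat.beq (ccom (64 * i) a) (ccom (64 * k) b))))) = true := by
  decide +kernel

/-- The test for `Rel` on codes. -/
noncomputable def crel (f e : ℕ) : Bool :=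
  forallLt 64 fun a => ccomm f (ccom e a) &&
    (!ccomm e a || anyLt 64 (fun b => Nat.beq (ccom f a) (ccom e b)))

theorem chk_pair : (crel 64 384 && crel 384 64 && crel 64 (cmul 384 64) &&
    Nat.ble 64 (cmul 384 64) && Nat.blt (cmul 384 384) 64 && Nat.blt (cmul 64 64) 64 &&
    Nat.blt (ccom 384 64) 64 &&
    anyLt 64 (fun a => anyLt 64 (fun b =>
      Nat.beq (ccom 384 a) (ccom 64 b) && !Nat.beq (ccom 384 a) 0)) &&
    anyLt 64 (fun a => forallLt 64 (fun b => !Nat.beq (ccom 64 a) (ccom 384 b))) &&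
    invRep 6 && invRep 1) = true := by
  decide +kernel

variable [Finite G]

/-- The facts from coordinates. -/
theorem shape_of_coords {S A : Subgroup G} (c : ℕ → G) (hS : Nat.card S = 512)
    (hmem : ∀ x, x < 512 → c x ∈ S)
    (hmul : ∀ x, x < 512 → ∀ y, y < 512 → cmul x y < 512 ∧ c x * c y = c (cmul x y))
    (hcov : ∀ g ∈ S, ∃ x, x < 512 ∧ c x = g)
    (hinj : ∀ x, x < 512 → ∀ y, y < 512 → c x = c y → x = y) (h0 : c 0 = 1)
    (hA : ∀ g, g ∈ A ↔ ∃ x, x < 64 ∧ c x = g) : Shape S A := by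
  classical
  have hinv : ∀ x, x < 512 → cinv x < 512 ∧ (c x)⁻¹ = c (cinv x) := by
    intro x hx
    have h := forallLt_elim cinv_ok hx
    simp only [Bool.and_eq_true, Nat.blt_eq, Nat.beq_eq] at h
    refine ⟨h.1, inv_eq_of_mul_eq_one_right ?_⟩
    rw [(hmul x hx _ h.1).2, h.2, h0]
  have hcom : ∀ x, x < 512 → ∀ y, y < 512 → ccom x y < 512 ∧ ⁅c x, c y⁆ = c (ccom x y) := by
    intro x hx y hy
    obtain ⟨h1, e1⟩ := hmul x hx y hy
    obtain ⟨h2, e2⟩ := hinv x hx
    obtain ⟨h3, e3⟩ := hinv y hy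
    obtain ⟨h4, e4⟩ := hmul _ h1 _ h2
    obtain ⟨h5, e5⟩ := hmul _ h4 _ h3
    exact ⟨h5, by rw [commutatorElement_def, e1, e2, e4, e3, e5]; rfl⟩
  have hAc : ∀ x, x < 512 → (c x ∈ A ↔ x < 64) := fun x hx => by
    refine ⟨fun h => ?_, fun h => (hA _).2 ⟨x, h, rfl⟩⟩
    obtain ⟨y, hy, he⟩ := (hA _).1 h
    exact hinj y (by omega) x hx he ▸ hy
  have hone : ∀ x, x < 512 → (c x = 1 ↔ x = 0) := fun x hx =>
    ⟨fun h => hinj x hx 0 (by norm_num) (h.trans h0.symm), fun h => h ▸ h0⟩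
  have hcomm : ∀ x, x < 512 → ∀ y, y < 512 → (Commute (c x) (c y) ↔ ccomm x y = true) := fun x hx y hy => by
    rw [← commutatorElement_eq_one_iff_commute, (hcom x hx y hy).2, hone _ (hcom x hx y hy).1]
    simp [ccomm, Nat.beq_eq]
  have hdec : ∀ x, x < 512 → c x = c (64 * (x / 64)) * c (x % 64) := fun x hx => by
    have h := forallLt_elim chk_dec hx
    rw [Nat.beq_eq] at h
    rw [(hmul _ (by omega) _ (by omega)).2]
    exact congrArg c h.symm
  have hab : ∀ a ∈ A, ∀ b ∈ A, a * b = b * a := fun a ha b hb => by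
    obtain ⟨i, hi, rfl⟩ := (hA a).1 ha
    obtain ⟨j, hj, rfl⟩ := (hA b).1 hb
    have h := forallLt_elim chk_sq hi
    simp only [Bool.and_eq_true] at h
    have h' := forallLt_elim h.1.2 hj
    simp only [Bool.and_eq_true, Nat.beq_eq] at h'
    rw [(hmul i (by omega) j (by omega)).2, (hmul j (by omega) i (by omega)).2, h'.1]
  -- the representative of a code acts as the code does on `A`
  have hco : ∀ x, x < 512 → ∀ a, a < 64 → ⁅c x, c a⁆ = ⁅c (64 * (x / 64)), c a⁆ := fun x hx a ha => by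
    rw [hdec x hx, commutatorElement_mul_left_eq_conj_mul, (commutatorElement_eq_one_iff_commute.2
      (hab _ ((hA _).2 ⟨x % 64, Nat.mod_lt _ (by norm_num), rfl⟩) _ ((hA _).2 ⟨a, ha, rfl⟩)) :
        ⁅c (x % 64), c a⁆ = 1)]
    group
  have hmodA : ∀ x, x < 512 → (c (64 * (x / 64)))⁻¹ * c x ∈ A := fun x hx => by
    rw [hdec x hx, inv_mul_cancel_left]
    exact (hA _).2 ⟨x % 64, Nat.mod_lt _ (by norm_num), rfl⟩
  have hq : ∀ x, x < 512 → (c x ∉ A ↔ x / 64 ≠ 0) := fun x hx => by rw [hAc x hx]; omega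
  have hcnt : ∀ (T : Subgroup G) (p : ℕ → Bool), T ≤ A →
      (∀ a, a < 64 → (c a ∈ T ↔ p a = true)) → Nat.card T = countLt 64 p := by
    intro T p hTA hp
    rw [countLt_eq]
    refine Eq.trans ?_ (Nat.card_eq_finsetCard _)
    symm
    refine Nat.card_congr (Equiv.ofBijective (fun k => ⟨c (k : ℕ), ?_⟩) ⟨?_, ?_⟩)
    · have hk := Finset.mem_filter.1 k.2
      exact (hp _ (Finset.mem_range.1 hk.1)).2 hk.2
    · intro a b e
      exact Subtype.ext (hinj _ (by have := Finset.mem_range.1 (Finset.mem_filter.1 a.2).1; omega) _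
        (by have := Finset.mem_range.1 (Finset.mem_filter.1 b.2).1; omega) (congrArg Subtype.val e))
    · rintro ⟨g, hg⟩
      obtain ⟨a, ha, rfl⟩ := (hA g).1 (hTA hg)
      exact ⟨⟨a, Finset.mem_filter.2 ⟨Finset.mem_range.2 ha, (hp a ha).1 hg⟩⟩, rfl⟩
  have hccoset : ∀ x, x < 512 → ∀ a, a < 64 → (Commute (c x) (c a) ↔ ccomm (64 * (x / 64)) a = true) :=
    fun x hx a ha => by
      rw [← hcomm _ (by omega) a (by omega), ← commutatorElement_eq_one_iff_commute,
        ← commutatorElement_eq_one_iff_commute, hco x hx a ha]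
  have hcent1 : ∀ x, x < 512 →
      Nat.card ↥(A ⊓ centralizer ({c x} : Set G)) = countLt 64 (fun a => ccomm (64 * (x / 64)) a) := by
    intro x hx
    refine hcnt _ _ inf_le_left fun a ha => ?_
    rw [← hccoset x hx a ha, Subgroup.mem_inf, mem_centralizer_singleton_iff]
    exact ⟨fun h => (h.2 : Commute _ _).symm, fun h => ⟨(hAc a (by omega)).2 ha, h.symm.eq⟩⟩
  have hinvrep : ∀ x, x < 512 → c x * c x = 1 → invRep (x / 64) = true := by
    intro x hx hxx
    rw [(hmul x hx x hx).2, hone _ (hmul x hx x hx).1] at hxx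
    unfold invRep
    suffices h : ∀ n, x % 64 < n → anyLt n (fun j => Nat.beq (cmul (64 * (x / 64) + j) (64 * (x / 64) + j)) 0) = true
      from h 64 (Nat.mod_lt _ (by norm_num))
    intro n
    induction n with
    | zero => intro h; omega
    | succ n ih =>
      intro h
      show (_ || anyLt n _) = true
      rcases Nat.lt_succ_iff_lt_or_eq.1 h with h | h
      · rw [ih h, Bool.or_true]
      · show (Nat.beq (cmul (64 * (x / 64) + n) (64 * (x / 64) + n)) 0 || _) = true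
        rw [← h, Nat.div_add_mod, hxx]
        rfl
  have hN : ∀ z, z < 512 → ∀ a ∈ A, c z * a * (c z)⁻¹ ∈ A := fun z hz a ha => by
    have e : c (z % 64) * a * (c (z % 64))⁻¹ = a := by
      rw [hab _ ((hA _).2 ⟨_, Nat.mod_lt _ (by norm_num), rfl⟩) a ha, mul_inv_cancel_right]
    obtain ⟨j, hj, rfl⟩ := (hA a).1 ha
    have h := forallLt_elim (forallLt_elim chk_norm (show z / 64 < 8 by omega)) hj
    rw [Nat.blt_eq] at h
    have hr : 64 * (z / 64) < 512 := by omega
    rw [hdec z hz, mul_inv_rev, show c (64 * (z / 64)) * c (z % 64) * c j * ((c (z % 64))⁻¹ * (c (64 * (z / 64)))⁻¹) =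
      c (64 * (z / 64)) * (c (z % 64) * c j * (c (z % 64))⁻¹) * (c (64 * (z / 64)))⁻¹ by group, e,
      (hmul _ hr j (by omega)).2, (hinv _ hr).2, (hmul _ (hmul _ hr j (by omega)).1 _ (hinv _ hr).1).2]
    exact (hA _).2 ⟨_, h, rfl⟩
  -- commutators with a representative
  have hcA : ∀ g, g < 512 → ∀ x, x < 512 → ⁅c g, c x⁆ ∈ A → ⁅c (64 * (g / 64)), c (64 * (x / 64))⁆ ∈ A := by
    intro g hg x hx h
    have ha : c (g % 64) ∈ A := (hA _).2 ⟨_, Nat.mod_lt _ (by norm_num), rfl⟩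
    rw [hdec g hg, commutatorElement_mul_left_eq_conj_mul] at h
    have h1 : c (64 * (g / 64)) * ⁅c (g % 64), c x⁆ * (c (64 * (g / 64)))⁻¹ ∈ A := by
      refine hN _ (by omega) _ ?_
      rw [commutatorElement_def, mul_assoc, mul_assoc, ← mul_assoc (c x)]
      exact mul_mem ha (hN x hx _ (inv_mem ha))
    have h2 := (mul_mem_cancel_left h1).1 h
    rw [(hcom _ (by omega) x hx).2, hAc _ (hcom _ (by omega) x hx).1] at h2
    rw [(hcom _ (by omega) _ (by omega)).2, hAc _ (hcom _ (by omega) _ (by omega)).1]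
    have h3 := forallLt_elim (forallLt_elim chk_comm_coset hx) (show g / 64 < 8 by omega)
    by_contra h4
    rw [beq_iff_eq] at h3
    have h5 : Nat.ble 64 (ccom (64 * (g / 64)) (64 * Nat.div x 64)) = true := Nat.ble_eq ▸ Nat.le_of_not_lt h4
    rw [← h3, Nat.ble_eq] at h5
    omega
  refine ⟨fun g hg => ?_, hS, ?_, fun a ha b hb => ?_, fun a ha => ?_, ?_, fun x hx hxA => ?_,
    fun x hx hxA hxx => ?_, fun x hx hxA y hy hyA hxy => ?_, ?_, fun x hx hxA hxx g hg hgx a ha => ?_,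
    fun x hx hxA hxx => ?_, fun x hx hxA hxx2 y hy hyA hyy2 hxy => ?_, ?_⟩
  · obtain ⟨x, hx, rfl⟩ := (hA g).1 hg
    exact hmem x (by omega)
  · rw [hcnt A (fun _ => true) le_rfl fun a ha => ⟨fun _ => rfl, fun _ => (hAc a (by omega)).2 ha⟩, countLt_eq]
    simp
  · exact hab a ha b hb
  · obtain ⟨i, hi, rfl⟩ := (hA a).1 ha
    have h := forallLt_elim chk_sq hi
    simp only [Bool.and_eq_true, Nat.beq_eq] at h
    rw [(hmul i (by omega) i (by omega)).2, h.1.1, h0]
  · intro g hg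
    obtain ⟨z, hz, rfl⟩ := hcov g hg
    refine mem_normalizer_iff.2 fun a => ⟨hN z hz a, fun ha => ?_⟩
    have h' := hN _ (hinv z hz).1 _ ha
    rw [← (hinv z hz).2] at h'
    simpa [mul_assoc] using h'
  · obtain ⟨i, hi, rfl⟩ := hcov x hx
    have h := forallLt_elim chk_cent (show i / 64 < 8 by omega)
    simp only [Bool.or_eq_true, Bool.and_eq_true, Nat.beq_eq, Nat.ble_eq] at h
    rw [hcent1 i hi]
    exact (h.resolve_left ((hq i hi).1 hxA)).1.1
  · obtain ⟨i, hi, rfl⟩ := hcov x hx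
    have h := forallLt_elim chk_cent (show i / 64 < 8 by omega)
    simp only [Bool.or_eq_true, Bool.and_eq_true, Nat.beq_eq, Nat.ble_eq, Bool.not_eq_true'] at h
    rw [hcent1 i hi]
    exact (h.resolve_left ((hq i hi).1 hxA)).1.2.resolve_left (by simp [hinvrep i hi hxx])
  · obtain ⟨i, hi, rfl⟩ := hcov x hx
    obtain ⟨k, hk, rfl⟩ := hcov y hy
    have hne : k / 64 ≠ i / 64 := fun e => hxy (by
      have h1 := hmodA i hi
      have h2 := hmodA k hk
      rw [e] at h2
      rw [show (c i)⁻¹ * c k = ((c (64 * (i / 64)))⁻¹ * c i)⁻¹ * ((c (64 * (i / 64)))⁻¹ * c k) by group]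
      exact mul_mem (inv_mem h1) h2)
    have h := forallLt_elim chk_cent (show i / 64 < 8 by omega)
    simp only [Bool.or_eq_true, Bool.and_eq_true, Nat.beq_eq] at h
    have h' := forallLt_elim (h.resolve_left ((hq i hi).1 hxA)).2 (show k / 64 < 8 by omega)
    simp only [Bool.or_eq_true, Nat.beq_eq, Nat.ble_eq] at h'
    refine le_of_eq_of_le (hcnt _ _ (inf_le_left.trans inf_le_left) fun a ha => ?_)
      (h'.resolve_left (not_or.2 ⟨(hq k hk).1 hyA, hne⟩))
    rw [Bool.and_eq_true, ← hccoset i hi a ha, ← hccoset k hk a ha]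
    simp only [Subgroup.mem_inf, mem_centralizer_singleton_iff]
    exact ⟨fun h => ⟨(h.1.2 : Commute _ _).symm, (h.2 : Commute _ _).symm⟩,
      fun h => ⟨⟨(hAc a (by omega)).2 ha, h.1.symm.eq⟩, h.2.symm.eq⟩⟩
  · refine ⟨c 64, hmem 64 (by norm_num), c 128, hmem 128 (by norm_num), ?_⟩
    rw [(hcom 64 (by norm_num) 128 (by norm_num)).2, hAc _ (hcom 64 (by norm_num) 128 (by norm_num)).1]
    have h := chk_nonab
    simp only [Bool.and_eq_true, Nat.ble_eq] at h
    omega
  · obtain ⟨i, hi, rfl⟩ := hcov x hx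
    obtain ⟨k, hk, rfl⟩ := hcov g hg
    obtain ⟨j, hj, rfl⟩ := (hA a).1 ha
    have hki := hcA k hk i hi hgx
    rw [(hcom _ (by omega) _ (by omega)).2, hAc _ (hcom _ (by omega) _ (by omega)).1] at hki
    have h := forallLt_elim chk_acts (show i / 64 < 8 by omega)
    simp only [Bool.or_eq_true, Bool.not_eq_true', Nat.beq_eq] at h
    have h' := forallLt_elim ((h.resolve_left (not_or.2 ⟨by simp [hinvrep i hi hxx], (hq i hi).1 hxA⟩)))
      (show k / 64 < 8 by omega)
    simp only [Bool.or_eq_true, Nat.ble_eq] at h'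
    have h'' := forallLt_elim (h'.resolve_left (by omega)) hj
    have hz : ccom (64 * (k / 64)) j < 64 := by
      rw [← hAc _ (hcom _ (by omega) j (by omega)).1, ← (hcom _ (by omega) j (by omega)).2, commutatorElement_def]
      exact mul_mem (hN _ (by omega) _ ((hA _).2 ⟨j, hj, rfl⟩)) (inv_mem ((hA _).2 ⟨j, hj, rfl⟩))
    rw [hco k hk j hj, (hcom _ (by omega) j (by omega)).2]
    exact (hccoset i hi _ hz).2 h''
  · obtain ⟨i, hi, rfl⟩ := hcov x hx
    by_cases h6 : i / 64 = 6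
    · right
      have hiZ : inZ i = true := by
        have hxx' := hxx
        rw [(hmul i hi i hi).2, hone _ (hmul i hi i hi).1] at hxx'
        show (_ || _) = true
        rw [Bool.or_eq_true, Bool.and_eq_true, Bool.and_eq_true, Nat.beq_eq, Nat.beq_eq]
        exact Or.inr ⟨h6, hxx'⟩
      have hZ : ∀ p, p < 512 → inZ p = true →
          (∀ q, q < 512 → inZ q = true → inZ (cmul p q) = true ∧ Commute (c p) (c q)) ∧
          (∀ k, k < 8 → inZ (cmul (cmul (64 * k) p) (cinv (64 * k))) = true) := by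
        intro p hp hpz
        obtain ⟨s, j, hs, hj, rfl⟩ := inZ_split hpz
        have h := forallLt_elim (forallLt_elim chk_Z hs) hj
        simp only [hpz, Bool.not_true, Bool.false_or, Bool.and_eq_true] at h
        refine ⟨fun q hq hqz => ?_, fun k hk => forallLt_elim h.2 hk⟩
        obtain ⟨t, l, ht, hl, rfl⟩ := inZ_split hqz
        have h' := forallLt_elim (forallLt_elim h.1 ht) hl
        simp only [hqz, Bool.not_true, Bool.false_or, Bool.and_eq_true, Nat.beq_eq] at h'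
        refine ⟨h'.1, ?_⟩
        show c _ * c _ = c _ * c _
        rw [(hmul _ hp _ hq).2, (hmul _ hq _ hp).2, h'.2]
      have hgg : ∀ g, g < 512 → ∀ g', g' < 512 → ∃ z, z < 512 ∧ inZ z = true ∧ ⁅c g, c g'⁆ = c z := by
        have hmz : ∀ u v : G, (∃ z, z < 512 ∧ inZ z = true ∧ u = c z) → (∃ z, z < 512 ∧ inZ z = true ∧ v = c z) →
            ∃ z, z < 512 ∧ inZ z = true ∧ u * v = c z := by
          rintro u v ⟨z, hz, hzZ, rfl⟩ ⟨w, hw, hwZ, rfl⟩
          exact ⟨_, (hmul z hz w hw).1, ((hZ z hz hzZ).1 w hw hwZ).1, (hmul z hz w hw).2⟩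
        have hcz : ∀ k, k < 8 → ∀ u : G, (∃ z, z < 512 ∧ inZ z = true ∧ u = c z) →
            ∃ z, z < 512 ∧ inZ z = true ∧ c (64 * k) * u * (c (64 * k))⁻¹ = c z := by
          rintro k hk u ⟨z, hz, hzZ, rfl⟩
          obtain ⟨l1, e1⟩ := hmul (64 * k) (by omega) z hz
          obtain ⟨l2, e2⟩ := hinv (64 * k) (by omega)
          exact ⟨_, (hmul _ l1 _ l2).1, (hZ z hz hzZ).2 k hk, by rw [e1, e2, (hmul _ l1 _ l2).2]⟩
        intro g hg g' hg'
        have hb : g % 64 < 64 := Nat.mod_lt _ (by norm_num)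
        have hb' : g' % 64 < 64 := Nat.mod_lt _ (by norm_num)
        have h := forallLt_elim chk_Z_comm (show g / 64 < 8 by omega)
        have h' := forallLt_elim chk_Z_comm (show g' / 64 < 8 by omega)
        simp only [Bool.and_eq_true] at h h'
        have h1 := forallLt_elim h.1 (show g' / 64 < 8 by omega)
        have h2 := forallLt_elim h.2 hb'
        have h3 := forallLt_elim h'.2 hb
        simp only [Bool.and_eq_true] at h2 h3
        rw [hdec g hg, commutatorElement_mul_left_eq_conj_mul, ← commutatorElement_inv (c g') (c (g % 64)),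
          hco g' hg' _ hb]
        refine hmz _ _ (hcz _ (by omega) _ ?_) ?_
        · obtain ⟨l1, e1⟩ := hcom (64 * (g' / 64)) (by omega) (g % 64) (by omega)
          exact ⟨_, (hinv _ l1).1, h3.2, by rw [e1, (hinv _ l1).2]⟩
        · rw [hdec g' hg', commutatorElement_mul_right_eq_mul_conj, mul_assoc _ (c (64 * (g' / 64))),
            mul_assoc _ (c (64 * (g' / 64)) * _)]
          refine hmz _ _ ⟨_, (hcom _ (by omega) _ (by omega)).1, h1, (hcom _ (by omega) _ (by omega)).2⟩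
            (hcz _ (by omega) _ ?_)
          exact ⟨_, (hcom _ (by omega) _ (by omega)).1, h2.1, (hcom _ (by omega) _ (by omega)).2⟩
      intro g hg g' hg'
      obtain ⟨p, hp, rfl⟩ := hcov g hg
      obtain ⟨p', hp', rfl⟩ := hcov g' hg'
      obtain ⟨z, hz, hzZ, he⟩ := hgg p hp p' hp'
      rw [he]
      refine ⟨((hZ i hi hiZ).1 z hz hzZ).2, fun a ha hxa => ?_⟩
      obtain ⟨j, hj, rfl⟩ := (hA a).1 ha
      refine ((hZ j (by omega) ?_).1 z hz hzZ).2
      have h6' := (hccoset i hi j hj).1 hxa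
      rw [h6] at h6'
      show (_ || _) = true
      rw [Bool.or_eq_true, Bool.and_eq_true, Nat.blt_eq]
      exact Or.inl ⟨hj, h6'⟩
    · left
      intro g hg hgA hxgA hgx g' hg' hgx'
      obtain ⟨k, hk, rfl⟩ := hcov g hg
      obtain ⟨l, hl, rfl⟩ := hcov g' hg'
      have hki := hcA k hk i hi hgx
      have hli := hcA l hl i hi hgx'
      rw [(hcom _ (by omega) _ (by omega)).2, hAc _ (hcom _ (by omega) _ (by omega)).1] at hki hli
      have hx2 : c i * c i = 1 := hxx
      have hkne : k / 64 ≠ i / 64 := fun e => hxgA (by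
        have h1 := hmodA i hi
        have h2 := hmodA k hk
        rw [e] at h2
        rw [show c i * c k = (c i * c i) * (((c (64 * (i / 64)))⁻¹ * c i)⁻¹ * ((c (64 * (i / 64)))⁻¹ * c k)) by
          group, hx2, one_mul]
        exact mul_mem (inv_mem h1) h2)
      have h := forallLt_elim chk_cases (show i / 64 < 8 by omega)
      simp only [Bool.or_eq_true, Bool.not_eq_true', Nat.beq_eq] at h
      have h' := forallLt_elim (h.resolve_left (by
        simp only [not_or]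
        exact ⟨⟨by simp [hinvrep i hi hxx], (hq i hi).1 hxA⟩, h6⟩)) (show k / 64 < 8 by omega)
      simp only [Bool.or_eq_true, Nat.beq_eq, Nat.ble_eq] at h'
      have h'' := forallLt_elim (h'.resolve_left (by
        simp only [not_or]
        exact ⟨⟨(hq k hk).1 hgA, hkne⟩, by omega⟩)) (show l / 64 < 8 by omega)
      simp only [Bool.or_eq_true, Nat.beq_eq, Nat.ble_eq, Nat.blt_eq] at h''
      have hmulA : ∀ p, p < 512 → ∀ q, q < 512 → cmul (64 * (p / 64)) (64 * (q / 64)) < 64 →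
          c p * c q ∈ A := by
        intro p hp q hq' hpq
        have h1 : c (64 * (p / 64)) * c (64 * (q / 64)) ∈ A := by
          rw [(hmul _ (by omega) _ (by omega)).2]; exact (hA _).2 ⟨_, hpq, rfl⟩
        have h2 : (c (64 * (q / 64)))⁻¹ * c (p % 64) * c (64 * (q / 64)) ∈ A := by
          have h := hN _ (hinv (64 * (q / 64)) (by omega)).1 _ ((hA _).2 ⟨p % 64, Nat.mod_lt _ (by norm_num), rfl⟩)
          rwa [← (hinv (64 * (q / 64)) (by omega)).2, inv_inv] at h
        rw [hdec p hp, hdec q hq', show c (64 * (p / 64)) * c (p % 64) * (c (64 * (q / 64)) * c (q % 64)) =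
          (c (64 * (p / 64)) * c (64 * (q / 64))) *
            ((c (64 * (q / 64)))⁻¹ * c (p % 64) * c (64 * (q / 64)) * c (q % 64)) by group]
        exact mul_mem h1 (mul_mem h2 ((hA _).2 ⟨_, Nat.mod_lt _ (by norm_num), rfl⟩))
      rcases h'' with (((h'' | h'') | h'') | h'') | h''
      · omega
      · exact Or.inl ((hAc l hl).2 (by omega))
      · exact Or.inr (Or.inl (hmulA i hi l hl h''))
      · exact Or.inr (Or.inr (Or.inl (hmulA k hk l hl h'')))
      · refine Or.inr (Or.inr (Or.inr ?_))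
        obtain ⟨l1, e1⟩ := hmul i hi k hk
        rw [e1]
        refine hmulA _ l1 l hl ?_
        have hdiv : cmul i k / 64 = cmul (64 * (i / 64)) (64 * (k / 64)) / 64 := by
          rw [cmul_div _ hk, cmul_div _ (show 64 * (k / 64) < 512 by omega),
            show 64 * (i / 64) / 64 = i / 64 by omega, show 64 * (k / 64) / 64 = k / 64 by omega]
        rw [hdiv]
        have hL : 64 * (l / 64) < 512 := by omega
        have c1 := cmul_div (cmul (64 * (i / 64)) (64 * (k / 64))) hL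
        have c2 := cmul_div (64 * (cmul (64 * (i / 64)) (64 * (k / 64)) / 64)) hL
        rw [show 64 * (cmul (64 * (i / 64)) (64 * (k / 64)) / 64) / 64 =
          cmul (64 * (i / 64)) (64 * (k / 64)) / 64 by omega] at c2
        omega
  · obtain ⟨i, hi, rfl⟩ := hcov x hx
    obtain ⟨k, hk, rfl⟩ := hcov y hy
    have hne : k / 64 ≠ i / 64 := fun e => hxy (by
      have h1 := hmodA i hi
      have h2 := hmodA k hk
      rw [e] at h2
      rw [show (c i)⁻¹ * c k = ((c (64 * (i / 64)))⁻¹ * c i)⁻¹ * ((c (64 * (i / 64)))⁻¹ * c k) by group]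
      exact mul_mem (inv_mem h1) h2)
    have hsq : ∀ p, p < 512 → c p * c p ∈ A → cmul (64 * (p / 64)) (64 * (p / 64)) < 64 := by
      intro p hp hpp
      rw [← hAc _ (hmul _ (by omega) _ (by omega)).1, ← (hmul _ (by omega) _ (by omega)).2]
      have hb := (hA _).2 ⟨p % 64, Nat.mod_lt _ (by norm_num), rfl⟩
      have hr : 64 * (p / 64) < 512 := by omega
      set r := c (64 * (p / 64)) with hrdef
      set b := c (p % 64) with hbdef
      have e : r * r = c p * c p * (b⁻¹ * (r⁻¹ * b⁻¹ * r)) := by rw [hdec p hp, ← hrdef, ← hbdef]; group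
      rw [e]
      refine mul_mem hpp (mul_mem (inv_mem hb) ?_)
      have h := hN _ (hinv _ hr).1 _ (inv_mem hb)
      rwa [← (hinv _ hr).2, inv_inv] at h
    have h := forallLt_elim chk_distinct (show i / 64 < 8 by omega)
    simp only [Bool.or_eq_true, Bool.not_eq_true', Nat.beq_eq] at h
    have h' := forallLt_elim (h.resolve_left (not_or.2 ⟨(hq i hi).1 hxA, by simp [hsq i hi hxx2, Nat.blt_eq]⟩))
      (show k / 64 < 8 by omega)
    simp only [Bool.or_eq_true, Bool.not_eq_true', Nat.beq_eq] at h'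
    obtain ⟨a, ha, hab⟩ := anyLt_elim (h'.resolve_left (not_or.2 ⟨not_or.2 ⟨(hq k hk).1 hyA, hne⟩,
      by simp [hsq k hk hyy2, Nat.blt_eq]⟩))
    refine ⟨c a, (hA _).2 ⟨a, ha, rfl⟩, fun b hb e => ?_⟩
    obtain ⟨b, hb', rfl⟩ := (hA b).1 hb
    rw [hco i hi a ha, hco k hk b hb', (hcom _ (by omega) a (by omega)).2, (hcom _ (by omega) b (by omega)).2] at e
    have h2 := forallLt_elim hab hb'
    rw [hinj _ (hcom _ (by omega) a (by omega)).1 _ (hcom _ (by omega) b (by omega)).1 e] at h2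
    simp at h2
  · have h := chk_pair
    simp only [Bool.and_eq_true, Nat.ble_eq, Nat.blt_eq] at h
    obtain ⟨⟨⟨⟨⟨⟨⟨⟨⟨⟨r1, r2⟩, r3⟩, hef⟩, hee⟩, hff⟩, hcm⟩, hmeet⟩, hout⟩, h6⟩, h1⟩ := h
    have hrel : ∀ f, f < 512 → ∀ e, e < 512 → crel f e = true → Rel A (c f) (c e) := by
      intro f hf e he hr
      refine ⟨fun a ha => ?_, fun d hd hed => ?_⟩
      · obtain ⟨j, hj, rfl⟩ := (hA a).1 ha
        have h := forallLt_elim hr hj
        rw [Bool.and_eq_true] at h
        rw [(hcom e he j (by omega)).2]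
        exact (hcomm f hf _ (hcom e he j (by omega)).1).2 h.1
      · obtain ⟨j, hj, rfl⟩ := (hA d).1 hd
        have h := forallLt_elim hr hj
        simp only [Bool.and_eq_true, Bool.or_eq_true, Bool.not_eq_true'] at h
        obtain ⟨b, hb, hbe⟩ := anyLt_elim (h.2.resolve_left (by simp [(hcomm e he j (by omega)).1 hed]))
        refine ⟨c b, (hA _).2 ⟨b, hb, rfl⟩, ?_⟩
        rw [(hcom f hf j (by omega)).2, (hcom e he b (by omega)).2, Nat.eq_of_beq_eq_true hbe]
    have hef' := (hmul 384 (by norm_num) 64 (by norm_num))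
    have h16 : ∀ i, i < 8 → i ≠ 0 → invRep i = true →
        Nat.card ↥(A ⊓ centralizer ({c (64 * i)} : Set G)) = 16 := by
      intro i hi hi0 hir
      have h := forallLt_elim chk_cent hi
      simp only [Bool.or_eq_true, Bool.and_eq_true, Nat.beq_eq, Bool.not_eq_true'] at h
      rw [hcent1 _ (by omega), show 64 * i / 64 = i by omega]
      exact (h.resolve_left hi0).1.2.resolve_left (by simp [hir])
    refine ⟨c 384, hmem 384 (by norm_num), c 64, hmem 64 (by norm_num), ?_, ?_, ?_, ?_, ?_, ?_,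
      hrel _ (by norm_num) _ (by norm_num) r1, hrel _ (by norm_num) _ (by norm_num) r2, ?_,
      h16 6 (by norm_num) (by norm_num) h6, h16 1 (by norm_num) (by norm_num) h1, ?_, ?_⟩
    · rw [hAc 384 (by norm_num)]; omega
    · rw [hAc 64 (by norm_num)]; omega
    · rw [hef'.2, hAc _ hef'.1]; omega
    · rw [(hmul 384 (by norm_num) 384 (by norm_num)).2]; exact (hA _).2 ⟨_, hee, rfl⟩
    · rw [(hmul 64 (by norm_num) 64 (by norm_num)).2]; exact (hA _).2 ⟨_, hff, rfl⟩
    · rw [(hcom 384 (by norm_num) 64 (by norm_num)).2]; exact (hA _).2 ⟨_, hcm, rfl⟩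
    · rw [hef'.2]; exact hrel _ (by norm_num) _ hef'.1 r3
    · obtain ⟨a, ha, ha'⟩ := anyLt_elim hmeet
      obtain ⟨b, hb, hb'⟩ := anyLt_elim ha'
      simp only [Bool.and_eq_true, Nat.beq_eq, Bool.not_eq_true'] at hb'
      refine ⟨c a, (hA _).2 ⟨a, ha, rfl⟩, c b, (hA _).2 ⟨b, hb, rfl⟩, ?_, ?_⟩
      · rw [(hcom 384 (by norm_num) a (by omega)).2, (hcom 64 (by norm_num) b (by omega)).2, hb'.1]
      · rw [(hcom 384 (by norm_num) a (by omega)).2, Ne, hone _ (hcom 384 (by norm_num) a (by omega)).1]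
        intro e
        rw [e] at hb'
        simp at hb'
    · obtain ⟨a, ha, hab⟩ := anyLt_elim hout
      refine ⟨c a, (hA _).2 ⟨a, ha, rfl⟩, fun b hb e => ?_⟩
      obtain ⟨j, hj, rfl⟩ := (hA b).1 hb
      rw [(hcom 64 (by norm_num) a (by omega)).2, (hcom 384 (by norm_num) j (by omega)).2] at e
      have h2 := forallLt_elim hab hj
      rw [hinj _ (hcom 64 (by norm_num) a (by omega)).1 _ (hcom 384 (by norm_num) j (by omega)).1 e] at h2
      simp at h2

/-- The facts hold for a Sylow 2-subgroup isomorphic to `P / Z(P)`. -/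
theorem exists_shape (S : Sylow 2 G) (P : Sylow 2 ↥Cfsg.M24)
    (hS : Nonempty (↥(S : Subgroup G) ≃* (↥(P : Subgroup ↥Cfsg.M24) ⧸ Subgroup.center ↥(P : Subgroup ↥Cfsg.M24))))
    (A : Subgroup G)
    (huniq : ∀ B : Subgroup G, B ≤ (S : Subgroup G) → IsMulCommutative ↥B → Nat.card ↥B = 64 → B = A) :
    Shape (S : Subgroup G) A := by
  classical
  haveI : Fact (Nat.Prime 2) := ⟨Nat.prime_two⟩
  obtain ⟨e⟩ := hS
  have hidx : ¬ 2 ∣ CfsgLib.LocalEven.M24Sylow.syl.index := by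
    have h := Subgroup.card_mul_index CfsgLib.LocalEven.M24Sylow.syl
    rw [CfsgLib.LocalEven.M24Sylow.card_syl, CfsgLib.Sporadic.M24_card] at h
    omega
  obtain ⟨d, hd, hmul, hcov, hinj, h0⟩ :=
    exists_coords ((CfsgLib.LocalEven.M24Sylow.isPGroup_syl.toSylow hidx).equiv P)
  let c : ℕ → G := fun x => ((e.symm (d x) : ↥(S : Subgroup G)) : G)
  have hc0 : c 0 = 1 := by simp [c, h0]
  have hcmul : ∀ x, x < 512 → ∀ y, y < 512 → cmul x y < 512 ∧ c x * c y = c (cmul x y) := by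
    intro x hx y hy
    refine ⟨(hmul x hx y hy).1, ?_⟩
    simp only [c, ← Subgroup.coe_mul, ← map_mul, (hmul x hx y hy).2]
  have hcinj : ∀ x, x < 512 → ∀ y, y < 512 → c x = c y → x = y := fun x hx y hy h =>
    hinj x hx y hy (e.symm.injective (Subtype.ext h))
  have hccov : ∀ g ∈ (S : Subgroup G), ∃ x, x < 512 ∧ c x = g := fun g hg => by
    obtain ⟨x, hx, h⟩ := hcov (e ⟨g, hg⟩)
    exact ⟨x, hx, by simp [c, h]⟩
  have hab : ∀ a, a < 64 → ∀ b, b < 64 → cmul a b = cmul b a ∧ cmul a b < 64 ∧ cmul a a = 0 := by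
    intro a ha b hb
    have h := forallLt_elim chk_sq ha
    simp only [Bool.and_eq_true, Nat.beq_eq] at h
    have h' := forallLt_elim h.1.2 hb
    simp only [Bool.and_eq_true, Nat.beq_eq, Nat.blt_eq] at h'
    exact ⟨h'.1, h'.2, h.1.1⟩
  let A0 : Subgroup G :=
    { carrier := {g | ∃ x, x < 64 ∧ c x = g}
      one_mem' := ⟨0, by norm_num, hc0⟩
      mul_mem' := by
        rintro _ _ ⟨a, ha, rfl⟩ ⟨b, hb, rfl⟩
        exact ⟨cmul a b, (hab a ha b hb).2.1, (hcmul a (by omega) b (by omega)).2.symm⟩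
      inv_mem' := by
        rintro _ ⟨a, ha, rfl⟩
        refine ⟨a, ha, eq_inv_of_mul_eq_one_left ?_⟩
        rw [(hcmul a (by omega) a (by omega)).2, (hab a ha a ha).2.2, hc0] }
  have hA0 : ∀ g, g ∈ A0 ↔ ∃ x, x < 64 ∧ c x = g := fun g => Iff.rfl
  have h0S : A0 ≤ (S : Subgroup G) := by
    rintro _ ⟨x, -, rfl⟩
    exact (e.symm (d x)).2
  have h := shape_of_coords c ((Nat.card_congr e.toEquiv).trans hd) (fun x _ => (e.symm (d x)).2) hcmul hccov
    hcinj hc0 hA0
  rwa [← huniq A0 h0S ⟨⟨fun a b => Subtype.ext (h.comm a a.2 b b.2)⟩⟩ h.cardA]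

end CfsgLib.TwoFusion.M24Type
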